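import Groth.Agent.Lib.Depth.SES
import Mathlib.RingTheory.KrullDimension.Regular
import Mathlib.RingTheory.Ideal.AssociatedPrime.Finiteness
import Mathlib.RingTheory.Ideal.AssociatedPrime.Localization
import Mathlib.RingTheory.Regular.IsSMulRegular

/-!
Depth and associated primes; depth is bounded by dimensions.
-/

universe u v

open RingTheory.Sequence Pointwise LocCoh IsLocalRing
open Groth.Agent.Lib.Depth.Basic

namespace Groth.Agent.Lib.Depth.Assoc

variable {R : Type u} [CommRing R] [IsNoetherianRing R]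

section

variable (I : Ideal R) (M : Type v) [AddCommGroup M] [Module R M] [Module.Finite R M]

theorem exists_isSMulRegular_iff :
    (∃ x ∈ I, IsSMulRegular M x) ↔ ∀ p ∈ associatedPrimes R M, ¬ I ≤ p := by
  have key := biUnion_associatedPrimes_eq_compl_regular R M
  constructor
  · rintro ⟨x, hx, hr⟩ p hp hle
    have : x ∈ ⋃ p ∈ associatedPrimes R M, (p : Set R) := Set.mem_iUnion₂_of_mem hp (hle hx)
    rw [key] at this
    exact this hr
  · intro h
    by_contra hc
    push Not at hc
    have hsub : (I : Set R) ⊆ ⋃ p ∈ associatedPrimes R M, (p : Set R) := fun x hx => by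
      rw [key]; exact hc x hx
    obtain ⟨p, hp, hle⟩ := (Ideal.subset_union_prime_finite (associatedPrimes.finite R M) ⊥ ⊥
      fun i hi _ _ => IsAssociatedPrime.isPrime hi).mp hsub
    exact h p hp hle

theorem one_le_idealDepth_iff_forall :
    1 ≤ idealDepth I M ↔ I • (⊤ : Submodule R M) = ⊤ ∨
      ∀ p ∈ associatedPrimes R M, ¬ I ≤ p := by
  rw [one_le_idealDepth_iff, exists_isSMulRegular_iff]

theorem idealDepth_eq_zero_iff (h : I • (⊤ : Submodule R M) ≠ ⊤) :
    idealDepth I M = 0 ↔ ∃ p ∈ associatedPrimes R M, I ≤ p := by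
  rw [← not_iff_not, ← ne_eq, ← Order.one_le_iff_ne_zero, one_le_idealDepth_iff_forall,
    or_iff_right h]
  simp

theorem depth_eq_zero_iff [IsLocalRing R] [Nontrivial M] :
    depth R M = 0 ↔ maximalIdeal R ∈ associatedPrimes R M := by
  rw [depth, idealDepth_eq_zero_iff _ _ (smul_top_ne_top (Ideal.IsPrime.ne_top'))]
  refine ⟨fun ⟨p, hp, hle⟩ => ?_, fun h => ⟨_, h, le_rfl⟩⟩
  rwa [(maximalIdeal.isMaximal R).eq_of_le (IsAssociatedPrime.isPrime hp).ne_top hle]

end

variable [IsLocalRing R]

/-- For an associated prime `p` of `M` and a regular element `x` in the maximal ideal, some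
associated prime of `M/xM` contains `p` and `x`. -/
theorem exists_associatedPrime_quotSMulTop (M : Type v) [AddCommGroup M] [Module R M]
    [Module.Finite R M] {x : R} (hx : x ∈ maximalIdeal R) (hreg : IsSMulRegular M x)
    {p : Ideal R} (hp : p ∈ associatedPrimes R M) :
    ∃ q ∈ associatedPrimes R (QuotSMulTop x M), p ≤ q ∧ x ∈ q := by
  classical
  let N : Submodule R M := Submodule.torsionBySet R M (p : Set R)
  have hN : Nontrivial N := by
    obtain ⟨hpp, m, hm⟩ := isAssociatedPrime_iff.mp hp
    have hm0 : m ≠ 0 := by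
      rintro rfl
      refine hpp.ne_top ((Ideal.eq_top_iff_one _).mpr ?_)
      rw [hm, Submodule.mem_colon_singleton]; simp
    refine ⟨⟨⟨m, ?_⟩, 0, fun h => hm0 (congrArg Subtype.val h)⟩⟩
    rw [Submodule.mem_torsionBySet_iff]
    rintro ⟨a, ha⟩
    have : a ∈ p := ha
    rw [hm, Submodule.mem_colon_singleton] at this
    simpa using this
  let φ : N →ₗ[R] QuotSMulTop x M := (x • (⊤ : Submodule R M)).mkQ.comp N.subtype
  have hker : LinearMap.ker φ ≤ x • (⊤ : Submodule R N) := by
    rintro ⟨m, hm⟩ hk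
    simp only [LinearMap.mem_ker, φ, LinearMap.comp_apply, Submodule.subtype_apply,
      Submodule.mkQ_apply, Submodule.Quotient.mk_eq_zero] at hk
    obtain ⟨m', -, rfl⟩ := (Submodule.mem_smul_pointwise_iff_exists _ _ _).mp hk
    rw [Submodule.mem_torsionBySet_iff] at hm
    have hm' : m' ∈ N := (Submodule.mem_torsionBySet_iff _ _).mpr fun a => hreg.right_eq_zero_of_smul
      (by rw [smul_comm]; exact hm a)
    exact (Submodule.mem_smul_pointwise_iff_exists _ _ _).mpr ⟨⟨m', hm'⟩, trivial, rfl⟩
  have : Module.Finite R N := Module.Finite.of_injective N.subtype N.injective_subtype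
  have hnt : Nontrivial (LinearMap.range φ) := by
    by_contra hc
    rw [not_nontrivial_iff_subsingleton, Submodule.subsingleton_iff_eq_bot,
      LinearMap.range_eq_bot] at hc
    have hle : (⊤ : Submodule R N) ≤ Ideal.span {x} • ⊤ := by
      rw [Submodule.ideal_span_singleton_smul]
      intro n hn
      exact hker (by simp [hc])
    exact smul_top_ne_top (M := N) (I := Ideal.span {x})
      (fun h => (maximalIdeal.isMaximal R).ne_top (top_le_iff.mp (h.ge.trans
        ((Ideal.span_singleton_le_iff_mem _).mpr hx)))) (top_le_iff.mp hle)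
  obtain ⟨q, hq⟩ := associatedPrimes.nonempty R (LinearMap.range φ)
  refine ⟨q, associatedPrimes.subset_of_injective (LinearMap.range φ).injective_subtype hq, ?_⟩
  have hann := IsAssociatedPrime.annihilator_le hq
  rw [Submodule.annihilator_top] at hann
  refine ⟨fun a ha => hann (Module.mem_annihilator.mpr ?_), hann (Module.mem_annihilator.mpr ?_)⟩
  · rintro ⟨_, n, rfl⟩
    apply Subtype.ext
    simp only [Submodule.coe_smul, ZeroMemClass.coe_zero, ← map_smul]
    have : a • n = 0 := Subtype.ext ((Submodule.mem_torsionBySet_iff _ _).mp n.2 ⟨a, ha⟩)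
    rw [this, map_zero]
  · rintro ⟨y, hy⟩
    apply Subtype.ext
    simp only [Submodule.coe_smul, ZeroMemClass.coe_zero]
    induction y using Submodule.Quotient.induction_on with
    | _ m =>
      rw [← Submodule.Quotient.mk_smul, Submodule.Quotient.mk_eq_zero]
      exact Submodule.smul_mem_pointwise_smul _ _ _ trivial

omit [IsNoetherianRing R] [IsLocalRing R] in
theorem ringKrullDim_quotient_add_one_le_of_lt {p q : Ideal R} [hp : p.IsPrime] [q.IsPrime]
    (h : p < q) : ringKrullDim (R ⧸ q) + 1 ≤ ringKrullDim (R ⧸ p) := by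
  obtain ⟨r, hrq, hrp⟩ := SetLike.exists_of_lt h
  have h0 : Ideal.Quotient.mk p r ≠ 0 := by rwa [ne_eq, Ideal.Quotient.eq_zero_iff_mem]
  have hmap : Ideal.span {Ideal.Quotient.mk p r} ≤ q.map (Ideal.Quotient.mk p) :=
    (Ideal.span_singleton_le_iff_mem _).mpr (Ideal.mem_map_of_mem _ hrq)
  calc ringKrullDim (R ⧸ q) + 1
      = ringKrullDim ((R ⧸ p) ⧸ q.map (Ideal.Quotient.mk p)) + 1 := by
        rw [ringKrullDim_eq_of_ringEquiv (DoubleQuot.quotQuotEquivQuotOfLE h.le)]
    _ ≤ ringKrullDim ((R ⧸ p) ⧸ Ideal.span {Ideal.Quotient.mk p r}) + 1 := by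
        gcongr
        exact ringKrullDim_le_of_surjective (Ideal.Quotient.factor hmap)
          (Ideal.Quotient.factor_surjective hmap)
    _ ≤ ringKrullDim (R ⧸ p) :=
        ringKrullDim_quotient_succ_le_of_nonZeroDivisor (mem_nonZeroDivisors_of_ne_zero h0)

/-- Ischebeck: the depth is at most `dim R/p` for every associated prime. -/
theorem depth_le_ringKrullDim_quotient (M : Type u) [AddCommGroup M] [Module R M]
    [Module.Finite R M] {p : Ideal R} (hp : p ∈ associatedPrimes R M) :
    ((depth R M : ℕ∞) : WithBot ℕ∞) ≤ ringKrullDim (R ⧸ p) := by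
  suffices key : ∀ (n : ℕ) (M : Type u) [AddCommGroup M] [Module R M] [Module.Finite R M]
      (p : Ideal R), p ∈ associatedPrimes R M → (n : ℕ∞) ≤ depth R M →
      ((n : ℕ∞) : WithBot ℕ∞) ≤ ringKrullDim (R ⧸ p) by
    have hpp := IsAssociatedPrime.isPrime hp
    have : Nontrivial (R ⧸ p) := Ideal.Quotient.nontrivial_iff.mpr hpp.ne_top
    obtain ⟨d, hd⟩ := WithBot.ne_bot_iff_exists.mp (ne_bot_of_le_ne_bot (WithBot.coe_ne_bot (a := (0 : ℕ∞))) ringKrullDim_nonneg_of_nontrivial : ringKrullDim (R ⧸ p) ≠ ⊥)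
    rw [← hd, WithBot.coe_le_coe]
    refine ENat.forall_natCast_le_iff_le.mp fun n hn => ?_
    have := key n M p hp hn
    rwa [← hd, WithBot.coe_le_coe] at this
  intro n
  induction n with
  | zero =>
    intro M _ _ _ p hp _
    have hpp := IsAssociatedPrime.isPrime hp
    have : Nontrivial (R ⧸ p) := Ideal.Quotient.nontrivial_iff.mpr hpp.ne_top
    simpa using ringKrullDim_nonneg_of_nontrivial
  | succ n ih =>
    intro M _ _ _ p hp hn
    have hpp := IsAssociatedPrime.isPrime hp
    have : Nontrivial M := by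
      by_contra hc
      have := not_nontrivial_iff_subsingleton.mp hc
      simp [associatedPrimes.eq_empty_of_subsingleton] at hp
    have hI := smul_top_ne_top (R := R) (M := M) (I := maximalIdeal R) Ideal.IsPrime.ne_top'
    obtain ⟨x, hx, hreg, hn'⟩ := exists_isSMulRegular_of_succ_le hI hn
    obtain ⟨q, hq, hpq, hxq⟩ := exists_associatedPrime_quotSMulTop M hx hreg hp
    have hqp := IsAssociatedPrime.isPrime hq
    have hlt : p < q := lt_of_le_not_ge hpq fun h => by
      have : x ∈ ⋃ p ∈ associatedPrimes R M, (p : Set R) := Set.mem_iUnion₂_of_mem hp (h hxq)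
      rw [biUnion_associatedPrimes_eq_compl_regular R M] at this
      exact this hreg
    calc (((n + 1 : ℕ) : ℕ∞) : WithBot ℕ∞) = ((n : ℕ∞) : WithBot ℕ∞) + 1 := by simp
      _ ≤ ringKrullDim (R ⧸ q) + 1 := by gcongr; exact ih _ q hq hn'
      _ ≤ ringKrullDim (R ⧸ p) := ringKrullDim_quotient_add_one_le_of_lt hlt

omit [IsNoetherianRing R] [IsLocalRing R] in
theorem ringKrullDim_quotient_le_supportDim (M : Type v) [AddCommGroup M] [Module R M]
    [Module.Finite R M] {p : Ideal R} (hp : p ∈ associatedPrimes R M) :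
    ringKrullDim (R ⧸ p) ≤ Module.supportDim R M := by
  rw [Module.supportDim_eq_ringKrullDim_quotient_annihilator]
  have hle := IsAssociatedPrime.annihilator_le hp
  rw [Submodule.annihilator_top] at hle
  exact ringKrullDim_le_of_surjective (Ideal.Quotient.factor hle)
    (Ideal.Quotient.factor_surjective hle)

theorem depth_le_supportDim (M : Type u) [AddCommGroup M] [Module R M] [Module.Finite R M]
    [Nontrivial M] : ((depth R M : ℕ∞) : WithBot ℕ∞) ≤ Module.supportDim R M := by
  obtain ⟨p, hp⟩ := associatedPrimes.nonempty R M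
  exact (depth_le_ringKrullDim_quotient M hp).trans (ringKrullDim_quotient_le_supportDim M hp)

theorem depth_le_ringKrullDim (M : Type u) [AddCommGroup M] [Module R M] [Module.Finite R M]
    [Nontrivial M] : ((depth R M : ℕ∞) : WithBot ℕ∞) ≤ ringKrullDim R :=
  (depth_le_supportDim M).trans (Module.supportDim_le_ringKrullDim R M)

theorem depth_ne_top (M : Type u) [AddCommGroup M] [Module R M] [Module.Finite R M]
    [Nontrivial M] : depth R M ≠ ⊤ := fun h => by
  have := depth_le_ringKrullDim (R := R) M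
  rw [h, WithBot.coe_top, top_le_iff] at this
  exact ringKrullDim_ne_top this

end Groth.Agent.Lib.Depth.Assoc
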