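import Groth.Agent.Lib.Depth.CM

/-!
Depth and localisation, flat base change, maximal regular sequences.
-/

universe u v w

open RingTheory.Sequence Pointwise LocCoh IsLocalRing TensorProduct
open Groth.Agent.Lib.Depth.Basic

namespace Groth.Agent.Lib.Depth.Local

section

variable {R : Type u} [CommRing R] {I : Ideal R} {M : Type v} [AddCommGroup M] [Module R M]

theorem idealDepth_eq_zero_of_exists (hI : I • (⊤ : Submodule R M) ≠ ⊤)
    (h : ∃ m : M, m ≠ 0 ∧ ∀ a ∈ I, a • m = 0) : idealDepth I M = 0 := by
  obtain ⟨m, hm, hk⟩ := h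
  by_contra h0
  rcases one_le_idealDepth_iff.mp (Order.one_le_iff_ne_zero.mpr h0) with h | ⟨x, hx, hr⟩
  · exact hI h
  · exact hm (hr.right_eq_zero_of_smul (hk x hx))

variable [IsNoetherianRing R] [Module.Finite R M]

theorem exists_smul_eq_zero_of_idealDepth_eq_zero (h : idealDepth I M = 0) :
    ∃ m : M, m ≠ 0 ∧ ∀ a ∈ I, a • m = 0 := by
  have hI : I • (⊤ : Submodule R M) ≠ ⊤ := fun hh => by
    rw [idealDepth_of_smul_top_eq hh] at h
    exact ENat.top_ne_zero h
  obtain ⟨p, hp, hle⟩ := (Assoc.idealDepth_eq_zero_iff I M hI).mp h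
  obtain ⟨hpp, m, hm⟩ := isAssociatedPrime_iff.mp hp
  refine ⟨m, fun h0 => hpp.ne_top ((Ideal.eq_top_iff_one _).mpr ?_), fun a ha => ?_⟩
  · rw [hm, h0, Submodule.mem_colon_singleton]; simp
  · have := hle ha
    rw [hm, Submodule.mem_colon_singleton] at this
    simpa using this

theorem idealDepth_eq_zero_iff_exists (hI : I • (⊤ : Submodule R M) ≠ ⊤) :
    idealDepth I M = 0 ↔ ∃ m : M, m ≠ 0 ∧ ∀ a ∈ I, a • m = 0 :=
  ⟨exists_smul_eq_zero_of_idealDepth_eq_zero, idealDepth_eq_zero_of_exists hI⟩

omit [IsNoetherianRing R] in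
theorem smul_top_ne_top_of_mem_support {p : Ideal R} [p.IsPrime]
    (hp : (⟨p, ‹_›⟩ : PrimeSpectrum R) ∈ Module.support R M) (hle : I ≤ p) :
    I • (⊤ : Submodule R M) ≠ ⊤ := fun h => by
  obtain ⟨r, hr1, hr2⟩ := Submodule.exists_sub_one_mem_and_smul_eq_zero_of_fg_of_le_smul I
    (⊤ : Submodule R M) Module.Finite.fg_top h.ge
  exact Ideal.IsPrime.ne_top ‹_› ((Ideal.eq_top_iff_one p).mpr (by
    simpa using sub_mem (Module.annihilator_le_of_mem_support hp
      (Module.mem_annihilator.mpr fun m => hr2 m trivial)) (hle hr1)))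

omit [IsNoetherianRing R] [Module.Finite R M] in
theorem exists_mem_support (hI : I • (⊤ : Submodule R M) ≠ ⊤) :
    ∃ p : PrimeSpectrum R, I ≤ p.asIdeal ∧ p ∈ Module.support R M := by
  have : Nontrivial (M ⧸ I • (⊤ : Submodule R M)) := Submodule.Quotient.nontrivial_iff.mpr hI
  obtain ⟨p, hp⟩ := Module.nonempty_support_of_nontrivial (R := R) (M := M ⧸ I • (⊤ : Submodule R M))
  refine ⟨p, fun a ha => Module.annihilator_le_of_mem_support hp (Module.mem_annihilator.mpr ?_),
    Module.support_subset_of_surjective _ (Submodule.mkQ_surjective _) hp⟩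
  intro x
  induction x using Submodule.Quotient.induction_on with
  | _ m =>
    rw [← Submodule.Quotient.mk_smul, Submodule.Quotient.mk_eq_zero]
    exact Submodule.smul_mem_smul ha trivial

end

section Noetherian

variable {R : Type u} [CommRing R] [IsNoetherianRing R] (I : Ideal R)
  (M : Type u) [AddCommGroup M] [Module R M] [Module.Finite R M]

omit [IsNoetherianRing R] in
/-- Depth is monotone under localisation at primes containing the ideal. -/
theorem idealDepth_le_depth_localization (p : Ideal R) [p.IsPrime] (hle : I ≤ p) :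
    idealDepth I M ≤ depth (Localization.AtPrime p) (LocalizedModule p.primeCompl M) := by
  by_cases hp : (⟨p, ‹_›⟩ : PrimeSpectrum R) ∈ Module.support R M
  · exact (idealDepth_mono hle (smul_top_ne_top_of_mem_support hp le_rfl)).trans
      (CM.idealDepth_le_depth_localization p)
  · have := (Module.notMem_support_iff).mp hp
    rw [depth, idealDepth_subsingleton (M := LocalizedModule p.primeCompl M)]
    exact le_top

theorem idealDepth_ne_top (hI : I • (⊤ : Submodule R M) ≠ ⊤) : idealDepth I M ≠ ⊤ := by
  obtain ⟨⟨p, hpp⟩, hle, hp⟩ := exists_mem_support hI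
  have := (Module.mem_support_iff).mp hp
  have := Module.Finite.of_isLocalizedModule p.primeCompl (Rₚ := Localization.AtPrime p)
    (LocalizedModule.mkLinearMap p.primeCompl M)
  exact ne_top_of_le_ne_top (Assoc.depth_ne_top (LocalizedModule p.primeCompl M))
    (idealDepth_le_depth_localization I M p hle)

theorem exists_nat_eq_idealDepth (hI : I • (⊤ : Submodule R M) ≠ ⊤) :
    ∃ n : ℕ, idealDepth I M = n := by
  obtain ⟨n, hn⟩ := ENat.ne_top_iff_exists.mp (idealDepth_ne_top I M hI)
  exact ⟨n, hn.symm⟩

variable {I M}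

theorem exists_regular_of_idealDepth_eq_succ {n : ℕ} (h : idealDepth I M = (n + 1 : ℕ)) :
    ∃ x ∈ I, IsSMulRegular M x ∧ I • (⊤ : Submodule R (QuotSMulTop x M)) ≠ ⊤ ∧
      idealDepth I (QuotSMulTop x M) = n := by
  have hI : I • (⊤ : Submodule R M) ≠ ⊤ := fun hh => by
    rw [idealDepth_of_smul_top_eq hh] at h
    exact ENat.top_ne_natCast _ h
  obtain ⟨x, hx, hreg, -⟩ := exists_isSMulRegular_of_succ_le hI h.ge
  refine ⟨x, hx, hreg, mt (SES.smul_top_quotSMulTop_eq_top_iff hx).mp hI, ?_⟩
  have := SES.idealDepth_quotSMulTop I hx hreg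
  rw [h, Nat.cast_succ] at this
  exact le_antisymm ((ENat.add_le_add_iff_right ENat.one_ne_top).mp this.le)
    ((ENat.add_le_add_iff_right ENat.one_ne_top).mp this.ge)

theorem idealDepth_quot_ofList {rs : List R} (hmem : ∀ r ∈ rs, r ∈ I)
    (hreg : IsWeaklyRegular M rs) :
    idealDepth I (M ⧸ Ideal.ofList rs • (⊤ : Submodule R M)) + rs.length = idealDepth I M := by
  induction rs generalizing M with
  | nil =>
    rw [List.length_nil, Nat.cast_zero, add_zero]
    exact idealDepth_congr I (Submodule.quotEquivOfEqBot _ (by simp))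
  | cons x rs ih =>
    rw [isWeaklyRegular_cons_iff] at hreg
    simp only [List.mem_cons, forall_eq_or_imp] at hmem
    rw [idealDepth_congr I (Submodule.quotOfListConsSMulTopEquivQuotSMulTopInner M x rs),
      List.length_cons, Nat.cast_succ, ← add_assoc, ih hmem.2 hreg.2,
      SES.idealDepth_quotSMulTop I hmem.1 hreg.1]

omit [IsNoetherianRing R] [Module.Finite R M] in
theorem ofList_smul_top_ne_top (hI : I • (⊤ : Submodule R M) ≠ ⊤) {rs : List R}
    (hmem : ∀ r ∈ rs, r ∈ I) :
    I • (⊤ : Submodule R (M ⧸ Ideal.ofList rs • (⊤ : Submodule R M))) ≠ ⊤ := by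
  intro h
  have := congrArg (Submodule.comap (Ideal.ofList rs • (⊤ : Submodule R M)).mkQ) h
  rw [Submodule.comap_top, ← Basic.smul_top_map I _ (Submodule.mkQ_surjective _),
    Submodule.comap_map_mkQ, sup_eq_right.mpr (Submodule.smul_mono_left (ofList_le hmem))] at this
  exact hI this

theorem idealDepth_eq_length_iff (hI : I • (⊤ : Submodule R M) ≠ ⊤) {rs : List R}
    (hmem : ∀ r ∈ rs, r ∈ I) (hreg : IsWeaklyRegular M rs) :
    idealDepth I M = rs.length ↔ ∀ r ∈ I, ¬ IsWeaklyRegular M (rs ++ [r]) := by
  have key := idealDepth_quot_ofList hmem hreg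
  constructor
  · intro h r hr hreg'
    have := length_le_idealDepth (I := I) hreg' (by
      simp only [List.mem_append, List.mem_singleton]
      rintro a (ha | rfl)
      exacts [hmem a ha, hr])
    rw [h, List.length_append, List.length_singleton] at this
    norm_cast at this
    omega
  · intro h
    have h0 : idealDepth I (M ⧸ Ideal.ofList rs • (⊤ : Submodule R M)) = 0 := by
      by_contra hne
      rcases one_le_idealDepth_iff.mp (Order.one_le_iff_ne_zero.mpr hne) with h' | ⟨x, hx, hr⟩
      · exact ofList_smul_top_ne_top hI hmem h'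
      · exact h x hx ((isWeaklyRegular_append_iff M rs [x]).mpr
          ⟨hreg, (isWeaklyRegular_singleton_iff _ x).mpr hr⟩)
    rw [← key, h0, zero_add]

/-- The depth is attained at some prime containing the ideal. -/
theorem exists_depth_localization_eq (hI : I • (⊤ : Submodule R M) ≠ ⊤) :
    ∃ (p : PrimeSpectrum R), I ≤ p.asIdeal ∧ idealDepth I M =
      depth (Localization.AtPrime p.asIdeal) (LocalizedModule p.asIdeal.primeCompl M) := by
  obtain ⟨n, hn⟩ := exists_nat_eq_idealDepth I M hI
  induction n generalizing M with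
  | zero =>
    obtain ⟨q, hq, hle⟩ := (Assoc.idealDepth_eq_zero_iff I M hI).mp (by simpa using hn)
    have hqp := IsAssociatedPrime.isPrime hq
    refine ⟨⟨q, hqp⟩, hle, ?_⟩
    let S := Localization.AtPrime q
    let ψ := LocalizedModule.mkLinearMap q.primeCompl M
    have := Module.Finite.of_isLocalizedModule q.primeCompl (Rₚ := S) ψ
    have hm : maximalIdeal S ∈ associatedPrimes S (LocalizedModule q.primeCompl M) := by
      rw [← Module.associatedPrimes.preimage_comap_associatedPrimes_eq_associatedPrimes_of_isLocalizedModule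
        q.primeCompl S ψ, Set.mem_preimage]
      rw [show Ideal.comap (algebraMap R S) (maximalIdeal S) = q from
        IsLocalization.AtPrime.under_maximalIdeal S q]
      exact hq
    have : Nontrivial (LocalizedModule q.primeCompl M) := by
      by_contra hc
      have := not_nontrivial_iff_subsingleton.mp hc
      simp [associatedPrimes.eq_empty_of_subsingleton] at hm
    rw [hn, Nat.cast_zero]
    exact ((Assoc.depth_eq_zero_iff _).mpr hm).symm
  | succ n ih =>
    obtain ⟨x, hx, hreg, hI', hn'⟩ := exists_regular_of_idealDepth_eq_succ hn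
    obtain ⟨⟨p, hpp⟩, hle, hp⟩ := ih hI' hn'
    refine ⟨⟨p, hpp⟩, hle, ?_⟩
    let S := Localization.AtPrime p
    let ψ := LocalizedModule.mkLinearMap p.primeCompl M
    have := Module.Finite.of_isLocalizedModule p.primeCompl (Rₚ := S) ψ
    have hxp : algebraMap R S x ∈ maximalIdeal S :=
      (IsLocalization.AtPrime.to_map_mem_maximal_iff S p x).mpr (hle hx)
    have hregp : IsSMulRegular (LocalizedModule p.primeCompl M) (algebraMap R S x) := by
      simpa using IsWeaklyRegular.of_isLocalizedModule S p.primeCompl ψ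
        ((isWeaklyRegular_singleton_iff M x).mpr hreg)
    change idealDepth I M = _
    rw [← SES.idealDepth_quotSMulTop I hx hreg, hp, depth, depth,
      ← SES.idealDepth_quotSMulTop (maximalIdeal S) hxp hregp,
      idealDepth_congr _ (CM.quotSMulTopLocalizedEquiv p M x)]

variable (I M) in
theorem idealDepth_eq_iInf :
    idealDepth I M = ⨅ (p : PrimeSpectrum R) (_ : I ≤ p.asIdeal),
      depth (Localization.AtPrime p.asIdeal) (LocalizedModule p.asIdeal.primeCompl M) := by
  refine le_antisymm (le_iInf₂ fun p hp => idealDepth_le_depth_localization I M p.asIdeal hp) ?_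
  by_cases hI : I • (⊤ : Submodule R M) = ⊤
  · rw [idealDepth_of_smul_top_eq hI]; exact le_top
  · obtain ⟨p, hle, hp⟩ := exists_depth_localization_eq hI
    exact hp ▸ iInf₂_le p hle

end Noetherian

section BaseChange

variable {A : Type u} [CommRing A] (B : Type u) [CommRing B] [Algebra A B] (I : Ideal A)
  (M : Type u) [AddCommGroup M] [Module A M]

theorem smul_top_baseChange_eq_top (h : I • (⊤ : Submodule A M) = ⊤) :
    I.map (algebraMap A B) • (⊤ : Submodule B (B ⊗[A] M)) = ⊤ := by
  refine top_le_iff.mp fun z _ => ?_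
  induction z using TensorProduct.induction_on with
  | zero => exact zero_mem _
  | tmul b m =>
    have h1 : (1 : B) ⊗ₜ[A] m ∈ I • (⊤ : Submodule A (B ⊗[A] M)) := by
      have hle : (I • (⊤ : Submodule A M)).map (TensorProduct.mk A B M 1) ≤ I • ⊤ := by
        rw [Submodule.map_smul'']
        exact Submodule.smul_mono le_rfl le_top
      exact hle (Submodule.mem_map_of_mem (by rw [h]; trivial))
    rw [← Submodule.restrictScalars_top A B, ← Ideal.smul_restrictScalars,
      Submodule.restrictScalars_mem] at h1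
    simpa [smul_tmul'] using Submodule.smul_mem _ b h1
  | add x y hx hy => exact add_mem (hx trivial) (hy trivial)

theorem idealDepth_le_baseChange [Module.Flat A B] :
    idealDepth I M ≤ idealDepth (I.map (algebraMap A B)) (B ⊗[A] M) := by
  refine ENat.forall_natCast_le_iff_le.mp fun n hn => ?_
  rw [le_idealDepth_iff] at hn ⊢
  rcases hn with h | ⟨rs, hl, hmem, hreg⟩
  · exact Or.inl (smul_top_baseChange_eq_top B I M h)
  · refine Or.inr ⟨rs.map (algebraMap A B), by simpa using hl, ?_,
      hreg.of_flat_of_isBaseChange (TensorProduct.isBaseChange A M B)⟩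
    simp only [List.mem_map, forall_exists_index, and_imp, forall_apply_eq_imp_iff₂]
    exact fun r hr => Ideal.mem_map_of_mem _ (hmem r hr)

theorem idealDepth_baseChange_eq [IsNoetherianRing A] [IsNoetherianRing B] [Module.Finite A M]
    [Module.FaithfullyFlat A B] :
    idealDepth (I.map (algebraMap A B)) (B ⊗[A] M) = idealDepth I M := by
  by_cases hI : I • (⊤ : Submodule A M) = ⊤
  · rw [idealDepth_of_smul_top_eq hI, idealDepth_of_smul_top_eq (smul_top_baseChange_eq_top B I M hI)]
  obtain ⟨n, hn⟩ := exists_nat_eq_idealDepth I M hI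
  have hbc : ∀ (M : Type u) [AddCommGroup M] [Module A M], I • (⊤ : Submodule A M) ≠ ⊤ →
      I.map (algebraMap A B) • (⊤ : Submodule B (B ⊗[A] M)) ≠ ⊤ := fun M _ _ h =>
    (((TensorProduct.isBaseChange A M B)).map_smul_top_ne_top_iff_of_faithfullyFlat A M I).mpr h
  induction n generalizing M with
  | zero =>
    rw [hn, Nat.cast_zero]
    obtain ⟨m, hm, hk⟩ := exists_smul_eq_zero_of_idealDepth_eq_zero (by simpa using hn)
    refine idealDepth_eq_zero_of_exists (hbc M hI) ⟨(1 : B) ⊗ₜ[A] m, fun h => hm ?_, fun b hb => ?_⟩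
    · exact Module.FaithfullyFlat.tensorProduct_mk_injective M (h.trans (map_zero _).symm)
    · induction hb using Submodule.span_induction with
      | mem x hx =>
        obtain ⟨a, ha, rfl⟩ := hx
        rw [algebraMap_smul, ← tmul_smul, hk a ha, tmul_zero]
      | zero => simp
      | add x y _ _ hx hy => rw [add_smul, hx, hy, add_zero]
      | smul c x _ hx => rw [smul_assoc, hx, smul_zero]
  | succ n ih =>
    obtain ⟨x, hx, hreg, hI', hn'⟩ := exists_regular_of_idealDepth_eq_succ hn
    have hregB : IsSMulRegular (B ⊗[A] M) (algebraMap A B x) :=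
      hreg.of_flat_of_isBaseChange (TensorProduct.isBaseChange A M B)
    rw [← SES.idealDepth_quotSMulTop I hx hreg,
      ← SES.idealDepth_quotSMulTop _ (Ideal.mem_map_of_mem _ hx) hregB,
      idealDepth_congr _ (QuotSMulTop.algebraMapTensorEquivTensorQuotSMulTop x M B),
      ih _ hI' hn']

/-- Depth does not change along a finite ring map. -/
theorem idealDepth_eq_map_of_finite [IsNoetherianRing A] [Module B M] [IsScalarTower A B M]
    [Module.Finite A B] [Module.Finite B M] :
    idealDepth I M = idealDepth (I.map (algebraMap A B)) M := by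
  by_cases hI : I • (⊤ : Submodule A M) = ⊤
  · rw [idealDepth_of_smul_top_eq hI, idealDepth_of_smul_top_eq ((smul_top_eq_top_iff_map I).mp hI)]
  have : IsNoetherianRing B := IsNoetherianRing.of_finite A B
  have : Module.Finite A M := Module.Finite.trans B M
  obtain ⟨n, hn⟩ := exists_nat_eq_idealDepth I M hI
  induction n generalizing M with
  | zero =>
    rw [hn, Nat.cast_zero]
    obtain ⟨m, hm, hk⟩ := exists_smul_eq_zero_of_idealDepth_eq_zero (by simpa using hn)
    refine (idealDepth_eq_zero_of_exists (mt (smul_top_eq_top_iff_map I).mpr hI) ⟨m, hm, ?_⟩).symm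
    intro b hb
    induction hb using Submodule.span_induction with
    | mem x hx =>
      obtain ⟨a, ha, rfl⟩ := hx
      rw [algebraMap_smul, hk a ha]
    | zero => simp
    | add x y _ _ hx hy => rw [add_smul, hx, hy, add_zero]
    | smul c x _ hx => rw [smul_assoc, hx, smul_zero]
  | succ n ih =>
    obtain ⟨x, hx, hreg, hI', hn'⟩ := exists_regular_of_idealDepth_eq_succ hn
    let e : QuotSMulTop x M ≃ₗ[A] QuotSMulTop (algebraMap A B x) M :=
      Submodule.quotEquivOfEq _ ((algebraMap A B x • (⊤ : Submodule B M)).restrictScalars A) (by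
          ext m
          simp [Submodule.mem_smul_pointwise_iff_exists]) ≪≫ₗ
        Submodule.Quotient.restrictScalarsEquiv A _
    rw [← SES.idealDepth_quotSMulTop I hx hreg,
      ← SES.idealDepth_quotSMulTop (I.map (algebraMap A B)) (Ideal.mem_map_of_mem _ hx)
        ((isSMulRegular_algebraMap_iff (M := M) (A := B) (r := x)).mpr hreg), idealDepth_congr I e,
      ih (QuotSMulTop (algebraMap A B x) M)
        ((smul_top_eq_top_congr I e).not.mp hI') inferInstance
        ((idealDepth_congr I e).symm.trans hn')]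

end BaseChange

end Groth.Agent.Lib.Depth.Local
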