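import Groth.Agent.Lib.Depth.Assoc
import Mathlib.RingTheory.RegularLocalRing.Defs
import Mathlib.RingTheory.Ideal.KrullsHeightTheorem
import Mathlib.RingTheory.Regular.Flat
import Mathlib.RingTheory.Localization.Submodule

/-!
Cohen–Macaulay modules and rings.
-/

universe u v

open RingTheory.Sequence Pointwise LocCoh IsLocalRing
open Groth.Agent.Lib.Depth.Basic

namespace Groth.Agent.Lib.Depth.CM

theorem supportDim_eq_nat {R : Type u} [CommRing R] [IsNoetherianRing R] [IsLocalRing R]
    (M : Type v) [AddCommGroup M] [Module R M] [Nontrivial M] :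
    ∃ d : ℕ, Module.supportDim R M = ((d : ℕ∞) : WithBot ℕ∞) := by
  obtain ⟨d, hd⟩ := WithBot.ne_bot_iff_exists.mp (Module.supportDim_ne_bot_of_nontrivial R M)
  have : d ≠ ⊤ := fun h => by
    have := (Module.supportDim_le_ringKrullDim R M)
    rw [← hd, h, WithBot.coe_top, top_le_iff] at this
    exact ringKrullDim_ne_top this
  obtain ⟨n, rfl⟩ := ENat.ne_top_iff_exists.mp this
  exact ⟨n, hd.symm⟩

variable {R : Type u} [CommRing R] [IsNoetherianRing R] [IsLocalRing R]
  {M : Type u} [AddCommGroup M] [Module R M] [Module.Finite R M]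

theorem isCohenMacaulayModule_iff_le [Nontrivial M] :
    IsCohenMacaulayModule R M ↔ Module.supportDim R M ≤ ((depth R M : ℕ∞) : WithBot ℕ∞) :=
  ⟨fun h => h.le, fun h => h.antisymm (Assoc.depth_le_supportDim M)⟩

omit [IsNoetherianRing R] in
theorem nontrivial_of_isCohenMacaulayModule {M : Type v} [AddCommGroup M] [Module R M]
    (h : IsCohenMacaulayModule R M) : Nontrivial M := by
  by_contra hc
  have := not_nontrivial_iff_subsingleton.mp hc
  rw [IsCohenMacaulayModule, Module.supportDim_eq_bot_of_subsingleton R M] at h
  exact WithBot.coe_ne_bot h.symm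

theorem ringKrullDim_quotient_eq (h : IsCohenMacaulayModule R M) {p : Ideal R}
    (hp : p ∈ associatedPrimes R M) : ringKrullDim (R ⧸ p) = Module.supportDim R M :=
  (Assoc.ringKrullDim_quotient_le_supportDim M hp).antisymm
    (h.le.trans (Assoc.depth_le_ringKrullDim_quotient M hp))

omit [IsNoetherianRing R] [Module.Finite R M] in
theorem isCohenMacaulayModule_congr {M' : Type v} [AddCommGroup M'] [Module R M']
    (e : M ≃ₗ[R] M') : IsCohenMacaulayModule R M ↔ IsCohenMacaulayModule R M' := by
  rw [IsCohenMacaulayModule, IsCohenMacaulayModule, Module.supportDim_eq_of_equiv e,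
    Basic.depth_congr e]

theorem isCohenMacaulayModule_quotSMulTop_iff {x : R} (hx : x ∈ maximalIdeal R)
    (hreg : IsSMulRegular M x) :
    IsCohenMacaulayModule R (QuotSMulTop x M) ↔ IsCohenMacaulayModule R M := by
  rw [IsCohenMacaulayModule, IsCohenMacaulayModule,
    ← Module.supportDim_quotSMulTop_succ_eq_supportDim hreg hx,
    depth, depth, ← SES.idealDepth_quotSMulTop _ hx hreg, WithBot.coe_add]
  refine ⟨fun h => by rw [h]; rfl, fun h => ?_⟩
  exact (ENat.WithBot.add_one_cancel).mp h

theorem isCohenMacaulayLocalRing_iff :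
    IsCohenMacaulayLocalRing R ↔ ringKrullDim R ≤ ((depth R R : ℕ∞) : WithBot ℕ∞) := by
  constructor
  · intro h
    exact (Module.supportDim_self_eq_ringKrullDim (R := R)).symm.le.trans h.supportDim_eq_depth.le
  · intro h
    exact { supportDim_eq_depth := by
              refine le_antisymm ?_ (Assoc.depth_le_supportDim R)
              rwa [Module.supportDim_self_eq_ringKrullDim] }

theorem ringKrullDim_eq_depth {R : Type u} [CommRing R] [h : IsCohenMacaulayLocalRing R] :
    ringKrullDim R = ((depth R R : ℕ∞) : WithBot ℕ∞) := by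
  rw [← Module.supportDim_self_eq_ringKrullDim]
  exact h.supportDim_eq_depth

theorem isCohenMacaulayModule_self {R : Type u} [CommRing R] [h : IsCohenMacaulayLocalRing R] :
    IsCohenMacaulayModule R R := h.supportDim_eq_depth

theorem isCohenMacaulayLocalRing_of_isRegular {rs : List R} (hreg : IsRegular R rs)
    (hlen : ringKrullDim R ≤ rs.length) : IsCohenMacaulayLocalRing R := by
  refine isCohenMacaulayLocalRing_iff.mpr (hlen.trans ?_)
  have hmem : ∀ r ∈ rs, r ∈ maximalIdeal R := by
    intro r hr hu
    exact hreg.top_ne_smul (by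
      rw [smul_eq_mul, Ideal.mul_top, eq_comm, Ideal.eq_top_iff_one]
      exact (Ideal.eq_top_iff_one _).mp
        (Ideal.eq_top_of_isUnit_mem _ (Ideal.subset_span hr) hu))
  exact WithBot.coe_le_coe.mpr (Basic.length_le_idealDepth hreg.toIsWeaklyRegular hmem)

omit [IsNoetherianRing R] in
theorem depth_quotient_eq (J : Ideal R) [IsLocalRing (R ⧸ J)] :
    depth R (R ⧸ J) = depth (R ⧸ J) (R ⧸ J) :=
  Basic.depth_eq_of_surjective Ideal.Quotient.mk_surjective

theorem isCohenMacaulayLocalRing_quotient_iff_module (J : Ideal R) [IsLocalRing (R ⧸ J)] :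
    IsCohenMacaulayLocalRing (R ⧸ J) ↔ IsCohenMacaulayModule R (R ⧸ J) := by
  rw [IsCohenMacaulayModule, depth_quotient_eq, Module.supportDim_quotient_eq_ringKrullDim,
    ← Module.supportDim_self_eq_ringKrullDim]
  exact ⟨fun h => h.supportDim_eq_depth, fun h => { supportDim_eq_depth := h }⟩

theorem isCohenMacaulayLocalRing_quotient_span_singleton_iff {x : R} (hx : x ∈ maximalIdeal R)
    (hreg : IsSMulRegular R x) [IsLocalRing (R ⧸ Ideal.span {x})] :
    IsCohenMacaulayLocalRing (R ⧸ Ideal.span {x}) ↔ IsCohenMacaulayLocalRing R := by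
  rw [isCohenMacaulayLocalRing_quotient_iff_module,
    isCohenMacaulayModule_congr
      (Submodule.quotEquivOfEq (Ideal.span {x}) (x • ⊤) (by
        rw [← Submodule.ideal_span_singleton_smul, smul_eq_mul, Ideal.mul_top])),
    isCohenMacaulayModule_quotSMulTop_iff hx hreg]
  exact ⟨fun h => { supportDim_eq_depth := h }, fun h => h.supportDim_eq_depth⟩

omit [IsNoetherianRing R] [IsLocalRing R] [Module.Finite R M] in
/-- Localisation commutes with reduction modulo an element. -/
noncomputable def quotSMulTopLocalizedEquiv (p : Ideal R) [p.IsPrime] (M : Type u) [AddCommGroup M]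
    [Module R M] (x : R) :
    LocalizedModule p.primeCompl (QuotSMulTop x M) ≃ₗ[Localization.AtPrime p]
      QuotSMulTop (algebraMap R (Localization.AtPrime p) x) (LocalizedModule p.primeCompl M) :=
  (IsLocalizedModule.isBaseChange p.primeCompl (Localization.AtPrime p)
      (LocalizedModule.mkLinearMap p.primeCompl (QuotSMulTop x M))).equiv.symm ≪≫ₗ
    (QuotSMulTop.algebraMapTensorEquivTensorQuotSMulTop x M (Localization.AtPrime p)).symm ≪≫ₗ
    QuotSMulTop.congr (algebraMap R (Localization.AtPrime p) x)
      (IsLocalizedModule.isBaseChange p.primeCompl (Localization.AtPrime p)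
        (LocalizedModule.mkLinearMap p.primeCompl M)).equiv

omit [IsNoetherianRing R] [IsLocalRing R] in
theorem supportDim_localization_le_zero (p : Ideal R) [p.IsPrime] (M : Type u) [AddCommGroup M]
    [Module R M] [Module.Finite R M]
    (hmin : ∀ P : PrimeSpectrum R, Module.annihilator R M ≤ P.asIdeal → P.asIdeal ≤ p →
      P.asIdeal = p) :
    Module.supportDim (Localization.AtPrime p) (LocalizedModule p.primeCompl M) ≤ 0 := by
  have := Module.Finite.of_isLocalizedModule p.primeCompl (Rₚ := Localization.AtPrime p)
    (LocalizedModule.mkLinearMap p.primeCompl M)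
  have hsub : ∀ P ∈ Module.support (Localization.AtPrime p) (LocalizedModule p.primeCompl M),
      P.asIdeal = maximalIdeal (Localization.AtPrime p) := by
    intro P hP
    rw [Module.support_eq_zeroLocus, PrimeSpectrum.mem_zeroLocus, SetLike.coe_subset_coe] at hP
    have hc : Module.annihilator R M ≤ (P.asIdeal).comap (algebraMap R _) := by
      intro r hr
      refine hP (Module.mem_annihilator.mpr fun m => ?_)
      rw [algebraMap_smul]
      obtain ⟨⟨a, s⟩, rfl⟩ := IsLocalizedModule.mk'_surjective p.primeCompl
        (LocalizedModule.mkLinearMap p.primeCompl M) m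
      simp only [Function.uncurry_apply_pair]
      rw [← IsLocalizedModule.mk'_smul, Module.mem_annihilator.mp hr a, IsLocalizedModule.mk'_zero]
    have hle : (P.asIdeal).comap (algebraMap R (Localization.AtPrime p)) ≤ p := by
      calc _ ≤ (maximalIdeal (Localization.AtPrime p)).comap (algebraMap R _) :=
            Ideal.comap_mono (le_maximalIdeal P.isPrime.ne_top)
        _ = p := IsLocalization.AtPrime.under_maximalIdeal _ p
    have heq := hmin (PrimeSpectrum.comap (algebraMap R _) P) hc hle
    rw [← IsLocalization.map_under p.primeCompl (Localization.AtPrime p) P.asIdeal,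
      ← IsLocalization.map_under p.primeCompl (Localization.AtPrime p) (maximalIdeal _)]
    exact congrArg _ (heq.trans (IsLocalization.AtPrime.under_maximalIdeal _ p).symm)
  have : Subsingleton (Module.support (Localization.AtPrime p) (LocalizedModule p.primeCompl M)) :=
    ⟨fun a b => Subtype.ext (PrimeSpectrum.ext ((hsub _ a.2).trans (hsub _ b.2).symm))⟩
  exact Order.krullDim_nonpos_of_subsingleton

/-- In a Cohen–Macaulay module, the localisation at a prime of the support has depth equal to the
dimension; moreover the `p`-depth of the module is already that large. -/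
theorem supportDim_localization_le_idealDepth (h : IsCohenMacaulayModule R M) (p : Ideal R)
    [p.IsPrime] (hp : ⟨p, ‹_›⟩ ∈ Module.support R M) :
    Module.supportDim (Localization.AtPrime p) (LocalizedModule p.primeCompl M) ≤
      ((idealDepth p M : ℕ∞) : WithBot ℕ∞) := by
  have := nontrivial_of_isCohenMacaulayModule h
  obtain ⟨d, hd⟩ := supportDim_eq_nat (R := R) M
  induction d using Nat.strong_induction_on generalizing M with
  | _ d ih =>
  by_cases hzd : ∃ x ∈ p, IsSMulRegular M x
  · obtain ⟨x, hx, hreg⟩ := hzd
    have hxm : x ∈ maximalIdeal R := le_maximalIdeal (Ideal.IsPrime.ne_top ‹_›) hx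
    have hCM := (isCohenMacaulayModule_quotSMulTop_iff hxm hreg).mpr h
    have hdim := Module.supportDim_quotSMulTop_succ_eq_supportDim hreg hxm
    have hmem : (⟨p, ‹_›⟩ : PrimeSpectrum R) ∈ Module.support R (QuotSMulTop x M) := by
      rw [Module.support_quotSMulTop]
      exact ⟨hp, by simpa using hx⟩
    have hnt := nontrivial_of_isCohenMacaulayModule hCM
    obtain ⟨e, he⟩ := supportDim_eq_nat (R := R) (QuotSMulTop x M)
    have hlt : e < d := by
      rw [he, hd] at hdim
      norm_cast at hdim
      omega
    have key := ih e hlt hCM hmem hnt he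
    let ψ := LocalizedModule.mkLinearMap p.primeCompl M
    have hxp : algebraMap R (Localization.AtPrime p) x ∈
        maximalIdeal (Localization.AtPrime p) := by
      rwa [IsLocalization.AtPrime.to_map_mem_maximal_iff (Localization.AtPrime p) p]
    have hregp : IsSMulRegular (LocalizedModule p.primeCompl M)
        (algebraMap R (Localization.AtPrime p) x) := by
      have := IsWeaklyRegular.of_isLocalizedModule (Localization.AtPrime p) p.primeCompl ψ
        ((isWeaklyRegular_singleton_iff M x).mpr hreg)
      simpa using this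
    have hntp : Nontrivial (LocalizedModule p.primeCompl M) := (Module.mem_support_iff).mp hp
    have := Module.Finite.of_isLocalizedModule p.primeCompl (Rₚ := Localization.AtPrime p) ψ
    have hdimp := Module.supportDim_quotSMulTop_succ_eq_supportDim hregp hxp
    rw [← hdimp, ← SES.idealDepth_quotSMulTop p hx hreg, WithBot.coe_add]
    refine add_le_add (le_trans (le_of_eq ?_) key) le_rfl
    exact (Module.supportDim_eq_of_equiv (quotSMulTopLocalizedEquiv p M x)).symm
  · have hzd' : ¬ ∀ q ∈ associatedPrimes R M, ¬ p ≤ q :=
      fun hh => hzd ((Assoc.exists_isSMulRegular_iff p M).mpr hh)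
    push Not at hzd'
    obtain ⟨q, hq, hpq⟩ := hzd'
    have hqp := IsAssociatedPrime.isPrime hq
    refine le_trans (supportDim_localization_le_zero p M fun P hann hP => ?_) ?_
    · by_contra hne
      have := P.isPrime
      have h1 := Assoc.ringKrullDim_quotient_add_one_le_of_lt (lt_of_lt_of_le (lt_of_le_of_ne hP hne) hpq)
      have h2 : ringKrullDim (R ⧸ P.asIdeal) ≤ ringKrullDim (R ⧸ q) := by
        rw [ringKrullDim_quotient_eq h hq, Module.supportDim_eq_ringKrullDim_quotient_annihilator]
        exact ringKrullDim_le_of_surjective (Ideal.Quotient.factor hann)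
          (Ideal.Quotient.factor_surjective hann)
      have h3 := h1.trans h2
      rw [ringKrullDim_quotient_eq h hq, hd] at h3
      norm_cast at h3
      omega
    · exact WithBot.coe_le_coe.mpr zero_le

omit [IsNoetherianRing R] [IsLocalRing R] in
/-- The `p`-depth of `M` is at most the depth of `M_p`. -/
theorem idealDepth_le_depth_localization (p : Ideal R) [p.IsPrime] :
    idealDepth p M ≤
      depth (Localization.AtPrime p) (LocalizedModule p.primeCompl M) := by
  have := Module.Finite.of_isLocalizedModule p.primeCompl (Rₚ := Localization.AtPrime p)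
    (LocalizedModule.mkLinearMap p.primeCompl M)
  by_cases hnt : Nontrivial (LocalizedModule p.primeCompl M)
  swap
  · have := not_nontrivial_iff_subsingleton.mp hnt
    rw [depth, Basic.idealDepth_subsingleton (M := LocalizedModule p.primeCompl M)]
    exact le_top
  have hI : p • (⊤ : Submodule R M) ≠ ⊤ := by
    intro h
    obtain ⟨r, hr1, hr2⟩ := Submodule.exists_sub_one_mem_and_smul_eq_zero_of_fg_of_le_smul p
      (⊤ : Submodule R M) Module.Finite.fg_top h.ge
    have hrp : r ∉ p := fun hr => Ideal.IsPrime.ne_top ‹_› ((Ideal.eq_top_iff_one p).mpr (by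
      simpa using sub_mem hr hr1))
    have := Module.annihilator_le_of_mem_support (R := R) (M := M) (p := ⟨p, ‹_›⟩)
      ((Module.mem_support_iff).mpr hnt)
    exact hrp (this (Module.mem_annihilator.mpr fun m => hr2 m trivial))
  refine ENat.forall_natCast_le_iff_le.mp fun n hn => ?_
  obtain ⟨rs, hl, hmem, hreg⟩ := (Basic.le_idealDepth_iff_of_ne_top hI n).mp hn
  have h2 := hreg.of_isLocalizedModule (Localization.AtPrime p) p.primeCompl
    (LocalizedModule.mkLinearMap p.primeCompl M)
  rw [← hl, ← List.length_map (f := algebraMap R (Localization.AtPrime p))]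
  refine Basic.length_le_idealDepth h2 ?_
  intro r hr
  obtain ⟨a, ha, rfl⟩ := List.mem_map.mp hr
  exact (IsLocalization.AtPrime.to_map_mem_maximal_iff (Localization.AtPrime p) p a).mpr (hmem a ha)

theorem isCohenMacaulayModule_localization (h : IsCohenMacaulayModule R M) (p : Ideal R)
    [p.IsPrime] (hp : ⟨p, ‹_›⟩ ∈ Module.support R M) :
    IsCohenMacaulayModule (Localization.AtPrime p) (LocalizedModule p.primeCompl M) := by
  have := Module.Finite.of_isLocalizedModule p.primeCompl (Rₚ := Localization.AtPrime p)
    (LocalizedModule.mkLinearMap p.primeCompl M)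
  have : Nontrivial (LocalizedModule p.primeCompl M) := (Module.mem_support_iff).mp hp
  exact isCohenMacaulayModule_iff_le.mpr ((supportDim_localization_le_idealDepth h p hp).trans
    (WithBot.coe_le_coe.mpr (idealDepth_le_depth_localization p)))

theorem isCohenMacaulayLocalRing_localization {R : Type u} [CommRing R]
    [IsCohenMacaulayLocalRing R] (p : Ideal R)
    [p.IsPrime] : IsCohenMacaulayLocalRing (Localization.AtPrime p) := by
  have hp : (⟨p, ‹_›⟩ : PrimeSpectrum R) ∈ Module.support R R := by
    simp [Module.support_eq_zeroLocus, Module.annihilator_eq_bot.mpr]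
  refine isCohenMacaulayLocalRing_iff.mpr ?_
  have h := isCohenMacaulayModule_localization (isCohenMacaulayModule_self (R := R)) p hp
  let e : LocalizedModule p.primeCompl R ≃ₗ[Localization.AtPrime p] Localization.AtPrime p :=
    LinearEquiv.refl _ _
  rw [isCohenMacaulayModule_congr e, IsCohenMacaulayModule,
    Module.supportDim_self_eq_ringKrullDim] at h
  exact h.le

end Groth.Agent.Lib.Depth.CM
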