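import Groth.Agent.Lib.Depth.Basic
import Mathlib.RingTheory.Depth.Rees
import Mathlib.RingTheory.Finiteness.Nakayama

/-!
`LocCoh.idealDepth` and vanishing of `Ext`.
-/

universe u v

open CategoryTheory Abelian RingTheory.Sequence Pointwise LocCoh
open Groth.Agent.Lib.Depth.Basic

namespace Groth.Agent.Lib.Depth.Ext

variable {R : Type u} [CommRing R]

section General

variable {X Y : ModuleCat.{u} R} {n : ℕ}

theorem smul_eq_zero_of_annihilator_src {r : R} (hr : r ∈ Module.annihilator R X)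
    (h : Ext X Y n) : r • h = 0 := by
  have h0 : r • 𝟙 X = (0 : X ⟶ X) := by
    ext x
    simpa using Module.mem_annihilator.mp hr x
  calc r • h = (r • Ext.mk₀ (𝟙 X)).comp h (zero_add n) := by
        rw [Ext.smul_comp, Ext.mk₀_id_comp]
    _ = (Ext.mk₀ (r • 𝟙 X)).comp h (zero_add n) := by rw [Ext.mk₀_smul]
    _ = 0 := by rw [h0, Ext.mk₀_zero, Ext.zero_comp]

theorem smul_eq_zero_of_annihilator_tgt {r : R} (hr : r ∈ Module.annihilator R Y)
    (h : Ext X Y n) : r • h = 0 := by
  have h0 : r • 𝟙 Y = (0 : Y ⟶ Y) := by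
    ext x
    simpa using Module.mem_annihilator.mp hr x
  rw [Ext.smul_eq_comp_mk₀, h0, Ext.mk₀_zero, Ext.comp_zero]

/-- `Ext N M = 0` when `M = I M` is finite and `N` is finite supported in `V(I)`. -/
theorem subsingleton_of_smul_top_eq [IsNoetherianRing R] (I : Ideal R) (N M : ModuleCat.{u} R)
    [Module.Finite R N] [Module.Finite R M]
    (hN : Module.support R N ⊆ PrimeSpectrum.zeroLocus I)
    (hM : I • (⊤ : Submodule R M) = ⊤) (n : ℕ) : Subsingleton (Ext N M n) := by
  obtain ⟨r, hr1, hr2⟩ := Submodule.exists_sub_one_mem_and_smul_eq_zero_of_fg_of_le_smul I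
    (⊤ : Submodule R M) Module.Finite.fg_top hM.ge
  rw [Module.support_eq_zeroLocus, PrimeSpectrum.zeroLocus_subset_zeroLocus_iff] at hN
  obtain ⟨k, hk⟩ := hN hr1
  refine subsingleton_of_forall_eq 0 fun h => ?_
  have e1 : r • h = 0 :=
    smul_eq_zero_of_annihilator_tgt (Module.mem_annihilator.mpr fun m => hr2 m trivial) h
  have key : ∀ j : ℕ, (r - 1) ^ j • h = (-1 : R) ^ j • h := by
    intro j
    induction j with
    | zero => simp
    | succ j ih =>
      rw [pow_succ', mul_smul, ih, sub_smul, one_smul, smul_comm, e1, smul_zero, zero_sub,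
        pow_succ', mul_smul, neg_one_smul]
  have e2 : ((-1 : R) ^ k) • h = 0 := (key k).symm.trans (smul_eq_zero_of_annihilator_src hk h)
  calc h = ((-1 : R) ^ k * (-1 : R) ^ k) • h := by rw [← mul_pow]; simp
    _ = 0 := by rw [mul_smul, e2, smul_zero]

variable (N : ModuleCat.{u} R) {S : ShortComplex (ModuleCat.{u} R)} (hS : S.ShortExact)

include hS

theorem subsingleton_X₂ {i : ℕ} (h1 : Subsingleton (Ext N S.X₁ i))
    (h3 : Subsingleton (Ext N S.X₃ i)) : Subsingleton (Ext N S.X₂ i) := by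
  refine subsingleton_of_forall_eq 0 fun x => ?_
  obtain ⟨x₁, rfl⟩ := Ext.covariant_sequence_exact₂ N hS x (Subsingleton.elim _ _)
  rw [Subsingleton.elim x₁ 0, Ext.zero_comp]

theorem subsingleton_X₁_zero (h2 : Subsingleton (Ext N S.X₂ 0)) :
    Subsingleton (Ext N S.X₁ 0) := by
  have := hS.mono_f
  exact (Ext.postcomp_mk₀_injective_of_mono N S.f).subsingleton

theorem subsingleton_X₁_succ {i : ℕ} (h3 : Subsingleton (Ext N S.X₃ i))
    (h2 : Subsingleton (Ext N S.X₂ (i + 1))) : Subsingleton (Ext N S.X₁ (i + 1)) := by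
  refine subsingleton_of_forall_eq 0 fun x => ?_
  obtain ⟨x₃, rfl⟩ := Ext.covariant_sequence_exact₁ N hS x (Subsingleton.elim _ _) rfl
  rw [Subsingleton.elim x₃ 0, Ext.zero_comp]

theorem subsingleton_X₃ {i : ℕ} (h2 : Subsingleton (Ext N S.X₂ i))
    (h1 : Subsingleton (Ext N S.X₁ (i + 1))) : Subsingleton (Ext N S.X₃ i) := by
  refine subsingleton_of_forall_eq 0 fun x => ?_
  obtain ⟨x₂, rfl⟩ := Ext.covariant_sequence_exact₃ N hS x rfl (Subsingleton.elim _ _)
  rw [Subsingleton.elim x₂ 0, Ext.zero_comp]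

theorem subsingleton_src_X₂ {i : ℕ} (h1 : Subsingleton (Ext S.X₁ N i))
    (h3 : Subsingleton (Ext S.X₃ N i)) : Subsingleton (Ext S.X₂ N i) := by
  refine subsingleton_of_forall_eq 0 fun x => ?_
  obtain ⟨x₃, rfl⟩ := Ext.contravariant_sequence_exact₂ hS N x (Subsingleton.elim _ _)
  rw [Subsingleton.elim x₃ 0, Ext.comp_zero]

theorem subsingleton_src_X₃_succ {i : ℕ} (h1 : Subsingleton (Ext S.X₁ N i))
    (h2 : Subsingleton (Ext S.X₂ N (i + 1))) : Subsingleton (Ext S.X₃ N (i + 1)) := by
  refine subsingleton_of_forall_eq 0 fun x => ?_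
  obtain ⟨x₁, rfl⟩ :=
    Ext.contravariant_sequence_exact₃ hS N x (Subsingleton.elim _ _) (add_comm 1 i)
  rw [Subsingleton.elim x₁ 0, Ext.comp_zero]

end General

section Depth

variable [IsNoetherianRing R] (I : Ideal R) (M : Type u) [AddCommGroup M] [Module R M]
  [Module.Finite R M]

/-- The depth is detected by `Ext` from any finite module supported exactly on `V(I)`. -/
theorem le_idealDepth_iff_ext (N : ModuleCat.{u} R) [Module.Finite R N]
    (hN : Module.support R N = PrimeSpectrum.zeroLocus I) (n : ℕ) :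
    (n : ℕ∞) ≤ idealDepth I M ↔ ∀ i < n, Subsingleton (Ext N (ModuleCat.of R M) i) := by
  constructor
  · intro h i hi
    by_cases hI : I • (⊤ : Submodule R M) = ⊤
    · exact subsingleton_of_smul_top_eq I N (ModuleCat.of R M) hN.subset hI i
    · obtain ⟨rs, hl, hmem, hreg⟩ := (le_idealDepth_iff_of_ne_top hI n).mp h
      exact ModuleCat.subsingleton_ext_of_exists_isRegular I N hN.subset (ModuleCat.of R M)
        (lt_top_iff_ne_top.mpr hI) rs hmem (isRegular_of_mem hI hreg hmem) i (hl ▸ hi)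
  · intro h
    by_cases hI : I • (⊤ : Submodule R M) = ⊤
    · rw [idealDepth_of_smul_top_eq hI]; exact le_top
    · obtain ⟨rs, hl, hmem, hreg⟩ := ModuleCat.exists_isRegular_of_exists_subsingleton_ext I n
        (ModuleCat.of R M) (lt_top_iff_ne_top.mpr hI) N hN h
      exact hl ▸ length_le_idealDepth hreg.toIsWeaklyRegular hmem

omit [IsNoetherianRing R] in
theorem support_quotient : Module.support R (R ⧸ I) = PrimeSpectrum.zeroLocus I := by
  rw [Module.support_eq_zeroLocus, Ideal.annihilator_quotient]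

theorem le_idealDepth_iff_ext_quotient (n : ℕ) :
    (n : ℕ∞) ≤ idealDepth I M ↔
      ∀ i < n, Subsingleton (Ext (ModuleCat.of R (R ⧸ I)) (ModuleCat.of R M) i) :=
  le_idealDepth_iff_ext I M (ModuleCat.of R (R ⧸ I)) (support_quotient I) n

theorem le_idealDepth_iff_forall_ext (n : ℕ) :
    (n : ℕ∞) ≤ idealDepth I M ↔ ∀ (N : ModuleCat.{u} R) [Module.Finite R N],
      Module.support R N ⊆ PrimeSpectrum.zeroLocus I →
      ∀ i < n, Subsingleton (Ext N (ModuleCat.of R M) i) := by
  constructor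
  · intro h N _ hN i hi
    by_cases hI : I • (⊤ : Submodule R M) = ⊤
    · exact subsingleton_of_smul_top_eq I N (ModuleCat.of R M) hN hI i
    · obtain ⟨rs, hl, hmem, hreg⟩ := (le_idealDepth_iff_of_ne_top hI n).mp h
      exact ModuleCat.subsingleton_ext_of_exists_isRegular I N hN (ModuleCat.of R M)
        (lt_top_iff_ne_top.mpr hI) rs hmem (isRegular_of_mem hI hreg hmem) i (hl ▸ hi)
  · exact fun h => (le_idealDepth_iff_ext_quotient I M n).mpr
      (h _ (support_quotient I).subset)

theorem idealDepth_radical_eq {J : Ideal R} (h : J.radical = I.radical) :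
    idealDepth J M = idealDepth I M := by
  refine Basic.eq_of_forall_le_iff fun n => ?_
  rw [le_idealDepth_iff_ext_quotient I M,
    le_idealDepth_iff_ext J M (ModuleCat.of R (R ⧸ I))]
  exact (support_quotient I).trans <| PrimeSpectrum.zeroLocus_eq_iff.mpr h.symm

theorem le_depth_iff_ext [IsLocalRing R] (n : ℕ) :
    (n : ℕ∞) ≤ depth R M ↔ ∀ i < n,
      Subsingleton (Ext (ModuleCat.of R (IsLocalRing.ResidueField R)) (ModuleCat.of R M) i) :=
  le_idealDepth_iff_ext_quotient _ M n

end Depth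

end Groth.Agent.Lib.Depth.Ext
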