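import Groth.Agent.Lib.Depth.Local

/-!
Vanishing of `Ext` below the depth.
-/

universe u

open CategoryTheory Abelian RingTheory.Sequence Pointwise LocCoh IsLocalRing
open Groth.Agent.Lib.Depth.Basic

namespace Groth.Agent.Lib.Depth.Vanish

variable {R : Type u} [CommRing R] {N M : ModuleCat.{u} R}

/-- If `y` kills `N` and is regular on `M`, vanishing of `Ext^i(N, M/yM)` gives that of
`Ext^(i+1)(N, M)`. -/
theorem subsingleton_ext_succ {y : R} (hy : y ∈ Module.annihilator R N)
    (hreg : IsSMulRegular M y) {i : ℕ}
    (h : Subsingleton (Ext N (ModuleCat.of R (QuotSMulTop y M)) i)) :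
    Subsingleton (Ext N M (i + 1)) := by
  refine subsingleton_of_forall_eq 0 fun α => ?_
  obtain ⟨x₃, hx⟩ := Ext.covariant_sequence_exact₁ N hreg.smulShortComplex_shortExact α (by
    rw [ModuleCat.smulShortComplex_f_eq_smul_id]
    exact (Ext.smul_eq_comp_mk₀ α y).symm.trans
      (Depth.Ext.smul_eq_zero_of_annihilator_src hy α)) rfl
  rw [← hx, (show Subsingleton (Ext N (M.smulShortComplex y).X₃ i) from h).elim x₃ 0]
  simp
  rfl

theorem subsingleton_ext_zero {y : R} (hy : y ∈ Module.annihilator R N)
    (hreg : IsSMulRegular M y) : Subsingleton (Ext N M 0) :=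
  have : Subsingleton (N →ₗ[R] M) :=
    ⟨fun f g => LinearMap.ext fun n => hreg (by
      simp only [← map_smul, Module.mem_annihilator.mp hy n, map_zero])⟩
  (Ext.addEquiv₀.trans ModuleCat.homAddEquiv).subsingleton

/-- Weakly regular sequences in `I` kill low `Ext` from modules annihilated by a power of `I`. -/
theorem subsingleton_ext_of_isWeaklyRegular {I : Ideal R} {k : ℕ}
    (hN : I ^ k ≤ Module.annihilator R N) {rs : List R} (hreg : IsWeaklyRegular M rs)
    (hmem : ∀ r ∈ rs, r ∈ I) {i : ℕ} (hi : i < rs.length) : Subsingleton (Ext N M i) := by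
  induction rs generalizing M i with
  | nil => simp at hi
  | cons x rs ih =>
    rw [isWeaklyRegular_cons_iff] at hreg
    simp only [List.mem_cons, forall_eq_or_imp] at hmem
    cases i with
    | zero =>
      exact subsingleton_ext_zero (hN (Ideal.pow_mem_pow hmem.1 k)) (hreg.1.pow k)
    | succ i =>
      refine subsingleton_of_forall_eq 0 fun α => ?_
      have hQ := ih (M := ModuleCat.of R (QuotSMulTop x M)) hreg.2 hmem.2 (i := i)
        (by simpa using hi)
      have hinj : ∀ β : Ext N M (i + 1), x • β = 0 → β = 0 := fun β hβ => by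
        obtain ⟨x₃, hx⟩ := Ext.covariant_sequence_exact₁ N hreg.1.smulShortComplex_shortExact β (by
          rw [ModuleCat.smulShortComplex_f_eq_smul_id]
          exact (Ext.smul_eq_comp_mk₀ β x).symm.trans hβ) rfl
        rw [← hx, (show Subsingleton (Ext N (M.smulShortComplex x).X₃ i) from hQ).elim x₃ 0]
        simp
        rfl
      have hpow : ∀ j : ℕ, ∀ β : Ext N M (i + 1), x ^ j • β = 0 → β = 0 := by
        intro j
        induction j with
        | zero => simp
        | succ j ih' =>
          intro β hβ
          rw [pow_succ, mul_smul] at hβ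
          exact hinj β (ih' _ hβ)
      exact hpow k α (Depth.Ext.smul_eq_zero_of_annihilator_src (hN (Ideal.pow_mem_pow hmem.1 k)) α)

variable [IsNoetherianRing R] [IsLocalRing R]

/-- `Ext^i(N, M) = 0` for `i + dim N < depth M`. -/
theorem subsingleton_ext_of_supportDim_lt (N : ModuleCat.{u} R) [Module.Finite R N] :
    ∀ (i : ℕ) (M : ModuleCat.{u} R) [Module.Finite R M],
      ((i : ℕ∞) : WithBot ℕ∞) + Module.supportDim R N < ((depth R M : ℕ∞) : WithBot ℕ∞) →
      Subsingleton (Ext N M i) := by
  intro i
  induction i with
  | zero =>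
    intro M _ h
    simp only [Nat.cast_zero, WithBot.coe_zero, zero_add] at h
    obtain ⟨y, hy, hr⟩ := (Assoc.exists_isSMulRegular_iff (Module.annihilator R N) M).mpr
      fun p hp hle => by
        refine absurd ((Assoc.depth_le_ringKrullDim_quotient M hp).trans ?_) h.not_ge
        rw [Module.supportDim_eq_ringKrullDim_quotient_annihilator]
        exact ringKrullDim_le_of_surjective (Ideal.Quotient.factor hle)
          (Ideal.Quotient.factor_surjective hle)
    exact subsingleton_ext_zero hy hr
  | succ i ih =>
    intro M _ h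
    by_cases hN : Nontrivial N
    swap
    · have := not_nontrivial_iff_subsingleton.mp hN
      refine subsingleton_of_forall_eq 0 fun α => ?_
      have h1 : (1 : R) ∈ Module.annihilator R N := Module.mem_annihilator.mpr fun n =>
        Subsingleton.elim _ _
      simpa using Depth.Ext.smul_eq_zero_of_annihilator_src h1 α
    have hd0 : ((0 : ℕ∞) : WithBot ℕ∞) ≤ Module.supportDim R N := by
      obtain ⟨d, hd⟩ := WithBot.ne_bot_iff_exists.mp (Module.supportDim_ne_bot_of_nontrivial R N)
      rw [← hd, WithBot.coe_le_coe]
      exact zero_le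
    have hlt : Module.supportDim R N < ((depth R M : ℕ∞) : WithBot ℕ∞) :=
      lt_of_le_of_lt (le_add_of_nonneg_left (WithBot.coe_le_coe.mpr zero_le)) h
    obtain ⟨y, hy, hr⟩ := (Assoc.exists_isSMulRegular_iff (Module.annihilator R N) M).mpr
      fun p hp hle => by
        refine absurd ((Assoc.depth_le_ringKrullDim_quotient M hp).trans ?_) hlt.not_ge
        rw [Module.supportDim_eq_ringKrullDim_quotient_annihilator]
        exact ringKrullDim_le_of_surjective (Ideal.Quotient.factor hle)
          (Ideal.Quotient.factor_surjective hle)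
    refine subsingleton_ext_succ hy hr (ih (ModuleCat.of R (QuotSMulTop y M)) ?_)
    have hym : y ∈ maximalIdeal R := fun hu => by
      have h1 : Module.annihilator R N = ⊤ := Ideal.eq_top_of_isUnit_mem _ hy hu
      rw [Module.annihilator_eq_top_iff] at h1
      exact not_subsingleton N h1
    rw [depth, ← SES.idealDepth_quotSMulTop _ hym hr, WithBot.coe_add, Nat.cast_succ,
      WithBot.coe_add, add_right_comm] at h
    exact lt_of_not_ge fun hle => h.not_ge (add_le_add hle le_rfl)

end Groth.Agent.Lib.Depth.Vanish
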