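import Groth.Prelude.Def_CAlg
import Mathlib.RingTheory.Regular.RegularSequence
import Mathlib.RingTheory.Nakayama
import Mathlib.Data.ENat.Lattice

/-!
Basic properties of `LocCoh.idealDepth` in terms of weakly regular sequences.
-/

universe u v w

open RingTheory.Sequence Pointwise LocCoh

namespace Groth.Agent.Lib.Depth.Basic

section

variable {R : Type u} [CommRing R] {M : Type v} [AddCommGroup M] [Module R M] {I : Ideal R}

theorem idealDepth_of_smul_top_eq (h : I • (⊤ : Submodule R M) = ⊤) : idealDepth I M = ⊤ := by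
  simp [idealDepth, h]

theorem idealDepth_eq_iSup (h : I • (⊤ : Submodule R M) ≠ ⊤) :
    idealDepth I M = ⨆ (rs : List R) (_ : IsWeaklyRegular M rs ∧ ∀ r ∈ rs, r ∈ I),
      (rs.length : ℕ∞) := by
  simp [idealDepth, h]

theorem isWeaklyRegular_take {rs : List R} (h : IsWeaklyRegular M rs) (n : ℕ) :
    IsWeaklyRegular M (rs.take n) :=
  ((isWeaklyRegular_append_iff M (rs.take n) (rs.drop n)).mp (by rwa [List.take_append_drop])).1

theorem length_le_idealDepth {rs : List R} (h : IsWeaklyRegular M rs) (hmem : ∀ r ∈ rs, r ∈ I) :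
    (rs.length : ℕ∞) ≤ idealDepth I M := by
  by_cases hI : I • (⊤ : Submodule R M) = ⊤
  · rw [idealDepth_of_smul_top_eq hI]; exact le_top
  · rw [idealDepth_eq_iSup hI]
    exact le_iSup₂_of_le rs ⟨h, hmem⟩ le_rfl

theorem le_idealDepth_iff (n : ℕ) :
    (n : ℕ∞) ≤ idealDepth I M ↔ I • (⊤ : Submodule R M) = ⊤ ∨
      ∃ rs : List R, rs.length = n ∧ (∀ r ∈ rs, r ∈ I) ∧ IsWeaklyRegular M rs := by
  constructor
  · intro h
    by_cases hI : I • (⊤ : Submodule R M) = ⊤
    · exact Or.inl hI
    refine Or.inr ?_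
    rw [idealDepth_eq_iSup hI] at h
    rcases Nat.eq_zero_or_pos n with rfl | hn
    · exact ⟨[], rfl, by simp, IsWeaklyRegular.nil R M⟩
    · by_contra hc
      have : (⨆ (rs : List R) (_ : IsWeaklyRegular M rs ∧ ∀ r ∈ rs, r ∈ I),
          (rs.length : ℕ∞)) ≤ ((n - 1 : ℕ) : ℕ∞) := by
        refine iSup₂_le fun rs hrs => ?_
        norm_cast
        by_contra hlt
        exact hc ⟨rs.take n, by simp; omega, fun r hr => hrs.2 r (List.mem_of_mem_take hr),
          isWeaklyRegular_take hrs.1 n⟩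
      have := h.trans this
      norm_cast at this
      omega
  · rintro (h | ⟨rs, rfl, hmem, hreg⟩)
    · rw [idealDepth_of_smul_top_eq h]; exact le_top
    · exact length_le_idealDepth hreg hmem

theorem le_idealDepth_iff_of_ne_top (hI : I • (⊤ : Submodule R M) ≠ ⊤) (n : ℕ) :
    (n : ℕ∞) ≤ idealDepth I M ↔
      ∃ rs : List R, rs.length = n ∧ (∀ r ∈ rs, r ∈ I) ∧ IsWeaklyRegular M rs := by
  rw [le_idealDepth_iff, or_iff_right hI]

theorem eq_of_forall_le_iff {a b : ℕ∞} (h : ∀ n : ℕ, (n : ℕ∞) ≤ a ↔ (n : ℕ∞) ≤ b) : a = b :=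
  le_antisymm (ENat.forall_natCast_le_iff_le.mp fun n hn => (h n).mp hn)
    (ENat.forall_natCast_le_iff_le.mp fun n hn => (h n).mpr hn)

theorem ofList_le {rs : List R} (hmem : ∀ r ∈ rs, r ∈ I) : Ideal.ofList rs ≤ I :=
  Ideal.span_le.mpr fun r hr => hmem r hr

theorem isRegular_of_mem (hI : I • (⊤ : Submodule R M) ≠ ⊤) {rs : List R}
    (h : IsWeaklyRegular M rs) (hmem : ∀ r ∈ rs, r ∈ I) : IsRegular M rs :=
  ⟨h, fun he => hI (top_le_iff.mp (he.le.trans (Submodule.smul_mono_left (ofList_le hmem))))⟩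

theorem smul_top_map (J : Ideal R) {M' : Type w} [AddCommGroup M'] [Module R M']
    (f : M →ₗ[R] M') (hf : Function.Surjective f) :
    (J • (⊤ : Submodule R M)).map f = J • ⊤ := by
  rw [Submodule.map_smul'', Submodule.map_top, LinearMap.range_eq_top.mpr hf]

theorem smul_top_eq_top_congr (J : Ideal R) {M' : Type w} [AddCommGroup M'] [Module R M']
    (e : M ≃ₗ[R] M') :
    J • (⊤ : Submodule R M) = ⊤ ↔ J • (⊤ : Submodule R M') = ⊤ := by
  have key := smul_top_map J (e : M →ₗ[R] M') e.surjective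
  constructor
  · intro h
    rw [← key, h, Submodule.map_top, LinearEquiv.range]
  · intro h
    have key' := smul_top_map J (e.symm : M' →ₗ[R] M) e.symm.surjective
    rw [← key', h, Submodule.map_top, LinearEquiv.range]

theorem idealDepth_congr (I : Ideal R) {M' : Type w} [AddCommGroup M'] [Module R M']
    (e : M ≃ₗ[R] M') : idealDepth I M = idealDepth I M' := by
  refine eq_of_forall_le_iff fun n => ?_
  rw [le_idealDepth_iff, le_idealDepth_iff, smul_top_eq_top_congr I e]
  simp only [e.isWeaklyRegular_congr]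

theorem depth_congr [IsLocalRing R] {M' : Type w} [AddCommGroup M'] [Module R M']
    (e : M ≃ₗ[R] M') : depth R M = depth R M' :=
  idealDepth_congr _ e

theorem idealDepth_mono {J : Ideal R} (hIJ : I ≤ J) (hJ : J • (⊤ : Submodule R M) ≠ ⊤) :
    idealDepth I M ≤ idealDepth J M := by
  have hI : I • (⊤ : Submodule R M) ≠ ⊤ := fun h =>
    hJ (top_le_iff.mp (h.ge.trans (Submodule.smul_mono_left hIJ)))
  rw [idealDepth_eq_iSup hI]
  exact iSup₂_le fun rs hrs => length_le_idealDepth hrs.1 fun r hr => hIJ (hrs.2 r hr)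

theorem idealDepth_subsingleton [Subsingleton M] : idealDepth I M = ⊤ :=
  idealDepth_of_smul_top_eq (Subsingleton.elim _ _)

theorem smul_top_ne_top_of_le_jacobson [Module.Finite R M] [Nontrivial M]
    (hI : I ≤ Ideal.jacobson ⊥) : I • (⊤ : Submodule R M) ≠ ⊤ := fun h =>
  top_ne_bot (α := Submodule R M)
    (Submodule.eq_bot_of_le_smul_of_le_jacobson_bot I ⊤ Module.Finite.fg_top h.ge hI)

theorem smul_top_ne_top [IsLocalRing R] [Module.Finite R M] [Nontrivial M] (hI : I ≠ ⊤) :
    I • (⊤ : Submodule R M) ≠ ⊤ :=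
  smul_top_ne_top_of_le_jacobson (IsLocalRing.jacobson_eq_maximalIdeal (⊥ : Ideal R) bot_ne_top ▸
    IsLocalRing.le_maximalIdeal hI)

theorem depth_eq_top_iff_smul [IsLocalRing R] :
    IsLocalRing.maximalIdeal R • (⊤ : Submodule R M) = ⊤ → depth R M = ⊤ :=
  idealDepth_of_smul_top_eq

theorem le_depth_iff [IsLocalRing R] [Module.Finite R M] [Nontrivial M] (n : ℕ) :
    (n : ℕ∞) ≤ depth R M ↔ ∃ rs : List R, rs.length = n ∧
      (∀ r ∈ rs, r ∈ IsLocalRing.maximalIdeal R) ∧ IsRegular M rs := by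
  have h := smul_top_ne_top (R := R) (M := M) (Ideal.IsPrime.ne_top' (I := IsLocalRing.maximalIdeal R))
  rw [depth, le_idealDepth_iff_of_ne_top h]
  exact exists_congr fun rs => and_congr_right fun _ => and_congr_right fun hmem =>
    ⟨fun hr => isRegular_of_mem h hr hmem, fun hr => hr.toIsWeaklyRegular⟩

/-- depth can only be tested on first elements: `n + 1 ≤` depth gives a regular element. -/
theorem exists_isSMulRegular_of_succ_le (hI : I • (⊤ : Submodule R M) ≠ ⊤) {n : ℕ}
    (h : ((n + 1 : ℕ) : ℕ∞) ≤ idealDepth I M) :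
    ∃ x ∈ I, IsSMulRegular M x ∧ (n : ℕ∞) ≤ idealDepth I (QuotSMulTop x M) := by
  obtain ⟨rs, hl, hmem, hreg⟩ := (le_idealDepth_iff_of_ne_top hI _).mp h
  match rs with
  | [] => simp at hl
  | a :: rs =>
    rw [isWeaklyRegular_cons_iff] at hreg
    simp only [List.mem_cons, forall_eq_or_imp] at hmem
    refine ⟨a, hmem.1, hreg.1, ?_⟩
    have : rs.length = n := by simpa using hl
    exact this ▸ length_le_idealDepth hreg.2 hmem.2

theorem one_le_idealDepth_iff :
    1 ≤ idealDepth I M ↔ I • (⊤ : Submodule R M) = ⊤ ∨ ∃ x ∈ I, IsSMulRegular M x := by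
  rw [← Nat.cast_one (R := ℕ∞), le_idealDepth_iff]
  refine or_congr_right ⟨?_, ?_⟩
  · rintro ⟨rs, hl, hmem, hreg⟩
    obtain ⟨a, rfl⟩ := List.length_eq_one_iff.mp hl
    exact ⟨a, hmem a (by simp), (isWeaklyRegular_singleton_iff M a).mp hreg⟩
  · rintro ⟨x, hx, hr⟩
    exact ⟨[x], rfl, by simpa using hx, (isWeaklyRegular_singleton_iff M x).mpr hr⟩

end

section Tower

variable {R : Type u} [CommRing R] {S : Type w} [CommRing S] [Algebra R S]
  {M : Type v} [AddCommGroup M] [Module R M] [Module S M] [IsScalarTower R S M]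

theorem smul_top_eq_top_iff_map (I : Ideal R) :
    I • (⊤ : Submodule R M) = ⊤ ↔
      I.map (algebraMap R S) • (⊤ : Submodule S M) = ⊤ := by
  refine Iff.trans ?_ (Submodule.restrictScalars_inj R S M)
  rw [Ideal.smul_restrictScalars, Submodule.restrictScalars_top]

theorem idealDepth_le_map (I : Ideal R) :
    idealDepth I M ≤ idealDepth (I.map (algebraMap R S)) M := by
  refine ENat.forall_natCast_le_iff_le.mp fun n hn => ?_
  rw [le_idealDepth_iff] at hn ⊢
  rcases hn with h | ⟨rs, hl, hmem, hreg⟩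
  · exact Or.inl ((smul_top_eq_top_iff_map I).mp h)
  · refine Or.inr ⟨rs.map (algebraMap R S), by simpa using hl, ?_,
      (isWeaklyRegular_map_algebraMap_iff S M rs).mpr hreg⟩
    simp only [List.mem_map, forall_exists_index, and_imp, forall_apply_eq_imp_iff₂]
    exact fun r hr => Ideal.mem_map_of_mem _ (hmem r hr)

theorem idealDepth_eq_map_of_surjective (h : Function.Surjective (algebraMap R S)) (I : Ideal R) :
    idealDepth I M = idealDepth (I.map (algebraMap R S)) M := by
  refine le_antisymm (idealDepth_le_map I) (ENat.forall_natCast_le_iff_le.mp fun n hn => ?_)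
  rw [le_idealDepth_iff] at hn ⊢
  rcases hn with h' | ⟨rs, hl, hmem, hreg⟩
  · exact Or.inl ((smul_top_eq_top_iff_map I).mpr h')
  · have hlift : ∀ s ∈ rs, ∃ r ∈ I, algebraMap R S r = s := fun s hs =>
      Ideal.mem_map_iff_of_surjective _ h |>.mp (hmem s hs)
    choose g hg using hlift
    let rs' : List R := rs.pmap (fun s hs => g s hs) (fun _ hs => hs)
    have hmap : rs'.map (algebraMap R S) = rs := by
      refine List.ext_getElem (by simp [rs']) fun i h1 h2 => ?_
      simpa [rs'] using (hg rs[i] (List.getElem_mem h2)).2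
    refine Or.inr ⟨rs', by simpa [rs'] using hl, ?_, ?_⟩
    · intro r hr
      obtain ⟨s, hs, rfl⟩ := List.mem_pmap.mp hr
      exact (hg s hs).1
    · rw [← isWeaklyRegular_map_algebraMap_iff S M, hmap]
      exact hreg

theorem depth_eq_of_surjective [IsLocalRing R] [IsLocalRing S]
    (h : Function.Surjective (algebraMap R S)) : depth R M = depth S M := by
  rw [depth, idealDepth_eq_map_of_surjective (S := S) h, depth]
  have hloc : IsLocalHom (algebraMap R S) := IsLocalHom.of_surjective _ h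
  congr 1
  refine le_antisymm (((IsLocalRing.local_hom_TFAE (algebraMap R S)).out 0 2).mp hloc) ?_
  intro s hs
  obtain ⟨r, rfl⟩ := h s
  exact Ideal.mem_map_of_mem _ fun hu => hs (hu.map _)

end Tower

end Groth.Agent.Lib.Depth.Basic
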