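import Groth.Agent.Lib.Depth.Ext

/-!
Depth in short exact sequences, and modulo a regular element.
-/

universe u v

open CategoryTheory Abelian RingTheory.Sequence Pointwise LocCoh
open Groth.Agent.Lib.Depth.Basic Groth.Agent.Lib.Depth.Ext

namespace Groth.Agent.Lib.Depth.SES

variable {R : Type u} [CommRing R] [IsNoetherianRing R] (I : Ideal R)
  {M₁ M₂ M₃ : Type u} [AddCommGroup M₁] [Module R M₁] [AddCommGroup M₂] [Module R M₂]
  [AddCommGroup M₃] [Module R M₃] [Module.Finite R M₁] [Module.Finite R M₂] [Module.Finite R M₃]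
  {f : M₁ →ₗ[R] M₂} {g : M₂ →ₗ[R] M₃}
  (hf : Function.Injective f) (hfg : Function.Exact f g) (hg : Function.Surjective g)

omit [IsNoetherianRing R] [Module.Finite R M₁] [Module.Finite R M₂] [Module.Finite R M₃] in
include hf hfg hg in
theorem exists_shortExact : ∃ S : ShortComplex (ModuleCat.{u} R),
    S.ShortExact ∧ S.X₁ = ModuleCat.of R M₁ ∧ S.X₂ = ModuleCat.of R M₂ ∧
      S.X₃ = ModuleCat.of R M₃ :=
  ⟨ShortComplex.mk (ModuleCat.ofHom f) (ModuleCat.ofHom g)
      (by ext x; exact hfg.apply_apply_eq_zero x),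
    { exact := (ShortComplex.ShortExact.moduleCat_exact_iff_function_exact _).mpr hfg
      mono_f := (ModuleCat.mono_iff_injective _).mpr hf
      epi_g := (ModuleCat.epi_iff_surjective _).mpr hg }, rfl, rfl, rfl⟩

include hf hfg hg

theorem le_idealDepth_middle {n : ℕ} (h1 : (n : ℕ∞) ≤ idealDepth I M₁)
    (h3 : (n : ℕ∞) ≤ idealDepth I M₃) : (n : ℕ∞) ≤ idealDepth I M₂ := by
  rw [le_idealDepth_iff_ext_quotient] at h1 h3 ⊢
  obtain ⟨S, hS, e1, e2, e3⟩ := exists_shortExact hf hfg hg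
  intro i hi
  rw [← e2]
  exact subsingleton_X₂ _ hS (e1 ▸ h1 i hi) (e3 ▸ h3 i hi)

theorem le_idealDepth_left {n : ℕ} (h2 : (n : ℕ∞) ≤ idealDepth I M₂)
    (h3 : ((n - 1 : ℕ) : ℕ∞) ≤ idealDepth I M₃) : (n : ℕ∞) ≤ idealDepth I M₁ := by
  rw [le_idealDepth_iff_ext_quotient] at h2 h3 ⊢
  obtain ⟨S, hS, e1, e2, e3⟩ := exists_shortExact hf hfg hg
  intro i hi
  rw [← e1]
  cases i with
  | zero => exact subsingleton_X₁_zero _ hS (e2 ▸ h2 0 hi)
  | succ i => exact subsingleton_X₁_succ _ hS (e3 ▸ h3 i (by omega)) (e2 ▸ h2 _ hi)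

theorem le_idealDepth_right {n : ℕ} (h2 : (n : ℕ∞) ≤ idealDepth I M₂)
    (h1 : ((n + 1 : ℕ) : ℕ∞) ≤ idealDepth I M₁) : (n : ℕ∞) ≤ idealDepth I M₃ := by
  rw [le_idealDepth_iff_ext_quotient] at h2 h1 ⊢
  obtain ⟨S, hS, e1, e2, e3⟩ := exists_shortExact hf hfg hg
  intro i hi
  rw [← e3]
  exact subsingleton_X₃ _ hS (e2 ▸ h2 i hi) (e1 ▸ h1 (i + 1) (by omega))

omit hf hfg hg

theorem smul_top_quotSMulTop_eq_top_iff {R : Type u} [CommRing R] {I : Ideal R}
    {M : Type v} [AddCommGroup M] [Module R M] {x : R} (hx : x ∈ I) :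
    I • (⊤ : Submodule R (QuotSMulTop x M)) = ⊤ ↔ I • (⊤ : Submodule R M) = ⊤ := by
  have hsurj := Submodule.mkQ_surjective (x • (⊤ : Submodule R M))
  constructor
  · intro h
    have := congrArg (Submodule.comap (x • (⊤ : Submodule R M)).mkQ) h
    rw [Submodule.comap_top, ← Basic.smul_top_map I _ hsurj, Submodule.comap_map_mkQ] at this
    rw [sup_eq_right.mpr] at this
    · exact this
    rw [← Submodule.ideal_span_singleton_smul]
    exact Submodule.smul_mono_left ((Ideal.span_singleton_le_iff_mem I).mpr hx)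
  · intro h
    rw [← Basic.smul_top_map I _ hsurj, h, Submodule.map_top, LinearMap.range_eq_top.mpr hsurj]

omit [Module.Finite R M₁] [Module.Finite R M₂] [Module.Finite R M₃] in
theorem succ_le_idealDepth_iff {M : Type u} [AddCommGroup M] [Module R M] [Module.Finite R M]
    {x : R} (hx : x ∈ I) (hreg : IsSMulRegular M x) (n : ℕ) :
    ((n + 1 : ℕ) : ℕ∞) ≤ idealDepth I M ↔ (n : ℕ∞) ≤ idealDepth I (QuotSMulTop x M) := by
  constructor
  · intro h
    refine le_idealDepth_right I (f := LinearMap.lsmul R M x)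
      (g := (x • (⊤ : Submodule R M)).mkQ) hreg ?_ (Submodule.mkQ_surjective _)
      ((Nat.cast_le.mpr (Nat.le_succ n)).trans h) h
    rw [LinearMap.exact_iff, Submodule.ker_mkQ]
    ext m
    rw [Submodule.mem_smul_pointwise_iff_exists]
    simp [eq_comm]
  · intro h
    rw [le_idealDepth_iff] at h ⊢
    rcases h with h | ⟨rs, hl, hmem, hr⟩
    · exact Or.inl ((smul_top_quotSMulTop_eq_top_iff hx).mp h)
    · exact Or.inr ⟨x :: rs, by simp [hl], by simpa using ⟨hx, hmem⟩,
        (isWeaklyRegular_cons_iff M x rs).mpr ⟨hreg, hr⟩⟩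

theorem idealDepth_quotSMulTop {M : Type u} [AddCommGroup M] [Module R M] [Module.Finite R M]
    {x : R} (hx : x ∈ I) (hreg : IsSMulRegular M x) :
    idealDepth I (QuotSMulTop x M) + 1 = idealDepth I M := by
  refine Basic.eq_of_forall_le_iff fun n => ?_
  cases n with
  | zero => simp
  | succ n =>
    rw [succ_le_idealDepth_iff I hx hreg n, Nat.cast_succ]
    exact ENat.add_le_add_iff_right ENat.one_ne_top

end Groth.Agent.Lib.Depth.SES
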