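import Groth.Agent.Lib.Depth.Local
import Groth.Agent.Lib.LocalCoh.Basic
import Groth.Agent.Lib.LocalCoh.Transfer

/-!
Depth and vanishing of local cohomology.
-/

universe u

open CategoryTheory RingTheory.Sequence Pointwise LocCoh
open Groth.Agent.Lib.Depth.Basic Groth.Agent.Lib.LocalCoh

namespace Groth.Agent.Lib.Depth.LocalCoh

variable {R : Type u} [CommRing R] (I : Ideal R)

theorem subsingleton_H_zero_iff (M : ModuleCat.{u} R) :
    Subsingleton ((localCohomology I 0).obj M) ↔
      ∀ m : M, (∃ n : ℕ, ∀ a ∈ I ^ n, a • m = 0) → m = 0 := by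
  rw [((lcZeroIso I).app M).toLinearEquiv.toEquiv.subsingleton_congr]
  constructor
  · intro h m hm
    exact congrArg Subtype.val (h.elim (⟨m, hm⟩ : DRing.torsionSub I M) 0)
  · intro h
    exact subsingleton_of_forall_eq 0 fun x => Subtype.ext (h x.1 x.2)

/-- `y • ` is injective on `H^(i+1)` when `H^i` of the quotient vanishes, so `H^(i+1) = 0`. -/
theorem subsingleton_H_succ {M : ModuleCat.{u} R} {y : R} (hy : y ∈ I) (hreg : IsSMulRegular M y)
    {i : ℕ} (h : Subsingleton ((localCohomology I i).obj (ModuleCat.of R (QuotSMulTop y M)))) :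
    Subsingleton ((localCohomology I (i + 1)).obj M) := by
  have hinj : ∀ x : (localCohomology I (i + 1)).obj M, y • x = 0 → x = 0 := fun x hx => by
    obtain ⟨z, hz⟩ := ((lcDeltaSeq I).exact₁ hreg.smulShortComplex_shortExact i x).1 (by
      rw [ModuleCat.smulShortComplex_f_eq_smul_id]
      exact (lc_map_smul_id I (i + 1) M y x).trans hx)
    rw [← hz, (show Subsingleton ((localCohomology I i).obj (M.smulShortComplex y).X₃) from h).elim z 0,
      map_zero]
    rfl
  refine subsingleton_of_forall_eq 0 fun x => ?_
  obtain ⟨n, hn⟩ := isPowerTorsion_lc I (i + 1) M x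
  have hx : y ^ n • x = 0 := hn _ (Ideal.pow_mem_pow hy n)
  clear hn
  induction n with
  | zero => simpa using hx
  | succ n ih =>
    refine ih ?_
    rw [pow_succ', mul_smul] at hx
    exact hinj _ hx

theorem subsingleton_H_quot {M : ModuleCat.{u} R} {y : R} (hreg : IsSMulRegular M y)
    {i : ℕ} (h : Subsingleton ((localCohomology I i).obj M))
    (h' : Subsingleton ((localCohomology I (i + 1)).obj M)) :
    Subsingleton ((localCohomology I i).obj (ModuleCat.of R (QuotSMulTop y M))) := by
  refine subsingleton_of_forall_eq 0 fun x => ?_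
  obtain ⟨z, hz⟩ := ((lcDeltaSeq I).exact₃ hreg.smulShortComplex_shortExact i x).1
    ((show Subsingleton ((localCohomology I (i + 1)).obj (M.smulShortComplex y).X₁) from h').elim _ _)
  rw [← hz, (show Subsingleton ((localCohomology I i).obj (M.smulShortComplex y).X₂) from h).elim z 0,
    map_zero]
  rfl

/-- The part of the characterisation needing no finiteness. -/
theorem subsingleton_H_of_isWeaklyRegular : ∀ {rs : List R} {M : ModuleCat.{u} R},
    IsWeaklyRegular M rs → (∀ r ∈ rs, r ∈ I) → ∀ {i : ℕ}, i < rs.length →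
      Subsingleton ((localCohomology I i).obj M) := by
  intro rs
  induction rs with
  | nil => intro M _ _ i hi; simp at hi
  | cons x rs ih =>
    intro M hreg hmem i hi
    rw [isWeaklyRegular_cons_iff] at hreg
    simp only [List.mem_cons, forall_eq_or_imp] at hmem
    cases i with
    | zero =>
      refine (subsingleton_H_zero_iff I M).mpr fun m ⟨n, hn⟩ => ?_
      exact (hreg.1.pow n).right_eq_zero_of_smul (hn _ (Ideal.pow_mem_pow hmem.1 n))
    | succ i =>
      exact subsingleton_H_succ I hmem.1 hreg.1
        (ih (M := ModuleCat.of R (QuotSMulTop x M)) hreg.2 hmem.2 (by simpa using hi))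

variable [IsNoetherianRing R] (M : Type u) [AddCommGroup M] [Module R M] [Module.Finite R M]

omit [IsNoetherianRing R] in
theorem subsingleton_H_of_smul_top_eq (hI : I • (⊤ : Submodule R M) = ⊤) (i : ℕ) :
    Subsingleton (LocCoh.H I i M) := by
  obtain ⟨r, hr1, hr2⟩ := Submodule.exists_sub_one_mem_and_smul_eq_zero_of_fg_of_le_smul I
    (⊤ : Submodule R M) Module.Finite.fg_top hI.ge
  refine subsingleton_of_forall_eq 0 fun x => ?_
  have hx : r • x = 0 := by
    have h0 : r • 𝟙 (ModuleCat.of R M) = 0 := by
      ext m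
      simpa using hr2 m trivial
    have h1 := lc_map_smul_id I i (ModuleCat.of R M) r x
    rw [h0, Functor.map_zero] at h1
    exact h1.symm
  obtain ⟨n, hn⟩ := isPowerTorsion_lc I i (ModuleCat.of R M) x
  have key : ∀ j : ℕ, (r - 1) ^ j • x = (-1 : R) ^ j • x := by
    intro j
    induction j with
    | zero => simp
    | succ j ih =>
      rw [pow_succ', mul_smul, ih, sub_smul, one_smul, smul_comm, hx, smul_zero, zero_sub,
        pow_succ', mul_smul, neg_one_smul]
  have e2 : ((-1 : R) ^ n) • x = 0 := (key n).symm.trans (hn _ (Ideal.pow_mem_pow hr1 n))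
  calc x = ((-1 : R) ^ n * (-1 : R) ^ n) • x := by rw [← mul_pow]; simp
    _ = 0 := by rw [mul_smul, e2, smul_zero]

/-- `n ≤ depth_I M` iff `H^i_I(M) = 0` for all `i < n`. -/
theorem le_idealDepth_iff_H (n : ℕ) :
    (n : ℕ∞) ≤ idealDepth I M ↔ ∀ i < n, Subsingleton (LocCoh.H I i M) := by
  constructor
  · intro h i hi
    rcases (le_idealDepth_iff n).mp h with h | ⟨rs, hl, hmem, hreg⟩
    · exact subsingleton_H_of_smul_top_eq I M h i
    · exact subsingleton_H_of_isWeaklyRegular I (M := ModuleCat.of R M) hreg hmem (hl ▸ hi)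
  · induction n generalizing M with
    | zero => simp
    | succ n ih =>
      intro h
      by_cases hI : I • (⊤ : Submodule R M) = ⊤
      · rw [idealDepth_of_smul_top_eq hI]; exact le_top
      have h0 := (subsingleton_H_zero_iff I (ModuleCat.of R M)).mp (h 0 (by omega))
      obtain ⟨x, hx, hreg⟩ : ∃ x ∈ I, IsSMulRegular M x := by
        rw [Assoc.exists_isSMulRegular_iff]
        intro p hp hle
        obtain ⟨hpp, m, hm⟩ := isAssociatedPrime_iff.mp hp
        have hm0 : m = 0 := h0 m ⟨1, fun a ha => by
          have := hle (by simpa using ha)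
          rw [hm, Submodule.mem_colon_singleton] at this
          simpa using this⟩
        refine hpp.ne_top ((Ideal.eq_top_iff_one _).mpr ?_)
        rw [hm, hm0, Submodule.mem_colon_singleton]; simp
      rw [SES.succ_le_idealDepth_iff I hx hreg]
      exact ih _ fun i hi => subsingleton_H_quot I (M := ModuleCat.of R M) hreg (h i (by omega))
        (h (i + 1) (by omega))

end Groth.Agent.Lib.Depth.LocalCoh
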