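import Groth.Agent.Lib.Depth.Local
import Mathlib.RingTheory.Ideal.KrullsHeightTheorem

/-!
When the depth of an ideal equals its number of generators.
-/

universe u

open RingTheory.Sequence Pointwise LocCoh IsLocalRing
open Groth.Agent.Lib.Depth.Basic

namespace Groth.Agent.Lib.Depth.Span

variable {R : Type u} [CommRing R] [IsNoetherianRing R] [IsLocalRing R]

/-- Depth is bounded by the number of generators modulo an associated prime. -/
theorem idealDepth_le_card (M : Type u) [AddCommGroup M] [Module R M] [Module.Finite R M]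
    {P : Ideal R} (hP : P ∈ associatedPrimes R M) {I : Ideal R} (hI : I ≠ ⊤) (s : Finset R)
    (hs : I ≤ P ⊔ Ideal.span (s : Set R)) (hs' : (s : Set R) ⊆ I) :
    idealDepth I M ≤ s.card := by
  classical
  have hPp := IsAssociatedPrime.isPrime hP
  have hne : I ⊔ P ≠ ⊤ := fun h => (maximalIdeal.isMaximal R).ne_top
    (top_le_iff.mp (h.ge.trans (sup_le (le_maximalIdeal hI) (le_maximalIdeal hPp.ne_top))))
  obtain ⟨Q, hQ⟩ := Ideal.nonempty_minimalPrimes (R := R) hne
  have hQp := hQ.isPrime
  have hIQ : I ≤ Q := le_sup_left.trans hQ.1.2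
  have hPQ : P ≤ Q := le_sup_right.trans hQ.1.2
  let S := Localization.AtPrime Q
  let ψ := LocalizedModule.mkLinearMap Q.primeCompl M
  have := Module.Finite.of_isLocalizedModule Q.primeCompl (Rₚ := S) ψ
  let P' : Ideal S := P.map (algebraMap R S)
  have hcom : P'.comap (algebraMap R S) = P :=
    IsLocalization.under_map_of_isPrime_disjoint Q.primeCompl S hPp
      (Set.disjoint_left.mpr fun a ha hb => ha (hPQ hb))
  have hP'p : P'.IsPrime :=
    IsLocalization.isPrime_of_isPrime_disjoint Q.primeCompl S P hPp
      (Set.disjoint_left.mpr fun a ha hb => ha (hPQ hb))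
  have hP' : P' ∈ associatedPrimes S (LocalizedModule Q.primeCompl M) := by
    rw [← Module.associatedPrimes.preimage_comap_associatedPrimes_eq_associatedPrimes_of_isLocalizedModule
        Q.primeCompl S ψ, Set.mem_preimage, hcom]
    exact hP
  refine (Local.idealDepth_le_depth_localization I M Q hIQ).trans ?_
  have hd := Assoc.depth_le_ringKrullDim_quotient (LocalizedModule Q.primeCompl M) hP'
  suffices ringKrullDim (S ⧸ P') ≤ ((s.card : ℕ∞) : WithBot ℕ∞) from
    WithBot.coe_le_coe.mp (hd.trans this)
  have : IsLocalRing (S ⧸ P') :=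
    IsLocalRing.of_surjective' (Ideal.Quotient.mk P') Ideal.Quotient.mk_surjective
  rw [← IsLocalRing.maximalIdeal_height_eq_ringKrullDim, WithBot.coe_le_coe]
  let f : R →+* S ⧸ P' := (Ideal.Quotient.mk P').comp (algebraMap R S)
  have hmem : maximalIdeal (S ⧸ P') ∈ (Ideal.span ((s.image f : Finset (S ⧸ P')) : Set (S ⧸ P'))).minimalPrimes := by
    refine ⟨⟨inferInstance, ?_⟩, fun J hJ hJm => ?_⟩
    · rw [Ideal.span_le, Finset.coe_image]
      rintro _ ⟨a, ha, rfl⟩ hu
      have ha' : algebraMap R S a ∈ maximalIdeal S :=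
        (IsLocalization.AtPrime.to_map_mem_maximal_iff S Q a).mpr (hIQ (hs' ha))
      have : IsLocalHom (Ideal.Quotient.mk P') :=
        IsLocalHom.of_surjective _ Ideal.Quotient.mk_surjective
      exact ha' (isUnit_of_map_unit (Ideal.Quotient.mk P') _ hu)
    · have hJp := hJ.1
      have hPJ : P ≤ J.comap f := fun a ha => by
        show Ideal.Quotient.mk P' (algebraMap R S a) ∈ J
        rw [Ideal.Quotient.eq_zero_iff_mem.mpr (Ideal.mem_map_of_mem _ ha)]
        exact zero_mem _
      have hIJ : I ⊔ P ≤ J.comap f := sup_le (hs.trans (sup_le hPJ (Ideal.span_le.mpr fun a ha =>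
        hJ.2 (Ideal.subset_span (by simpa using ⟨a, ha, rfl⟩))))) hPJ
      have hmax : (J.comap (Ideal.Quotient.mk P')).comap (algebraMap R S) ≤ Q := by
        calc _ ≤ (maximalIdeal S).comap (algebraMap R S) :=
              Ideal.comap_mono (le_maximalIdeal (Ideal.IsPrime.ne_top inferInstance))
          _ = Q := IsLocalization.AtPrime.under_maximalIdeal S Q
      have heq : (J.comap (Ideal.Quotient.mk P')).comap (algebraMap R S) = Q :=
        le_antisymm hmax (hQ.2 ⟨inferInstance, hIJ⟩ hmax)
      have h2 : J.comap (Ideal.Quotient.mk P') = maximalIdeal S := by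
        rw [← IsLocalization.map_under Q.primeCompl S (J.comap (Ideal.Quotient.mk P')),
          ← IsLocalization.map_under Q.primeCompl S (maximalIdeal S)]
        exact congrArg _ (heq.trans (IsLocalization.AtPrime.under_maximalIdeal S Q).symm)
      intro x hx
      obtain ⟨y, rfl⟩ := Ideal.Quotient.mk_surjective x
      exact Ideal.mem_comap.mp (h2.ge (fun hu => hx (hu.map _)))
  exact (Ideal.height_le_card_of_mem_minimalPrimes_span_finset hmem).trans
    (Nat.cast_le.mpr Finset.card_image_le)

theorem isWeaklyRegular_of_idealDepth_eq : ∀ (xs : List R) (M : Type u) [AddCommGroup M]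
    [Module R M] [Module.Finite R M] [Nontrivial M],
    (∀ x ∈ xs, x ∈ maximalIdeal R) → (xs.length : ℕ∞) ≤ idealDepth (Ideal.ofList xs) M →
    IsWeaklyRegular M xs := by
  classical
  intro xs
  induction xs with
  | nil => intros; exact IsWeaklyRegular.nil R _
  | cons x xs ih =>
    intro M _ _ _ _ hxs hle
    simp only [List.mem_cons, forall_eq_or_imp] at hxs
    have hI : Ideal.ofList (x :: xs) ≠ ⊤ := fun h => (maximalIdeal.isMaximal R).ne_top
      (top_le_iff.mp (h.ge.trans (Ideal.span_le.mpr fun a ha => (List.mem_cons.mp ha).elim (fun e => e ▸ hxs.1) (hxs.2 a))))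
    have hx : IsSMulRegular M x := by
      by_contra hnr
      have hmem : x ∈ ⋃ p ∈ associatedPrimes R M, (p : Set R) := by
        rw [biUnion_associatedPrimes_eq_compl_regular R M]; exact hnr
      simp only [Set.mem_iUnion, SetLike.mem_coe] at hmem
      obtain ⟨P, hP, hxP⟩ := hmem
      have := hle.trans (idealDepth_le_card M hP hI xs.toFinset (by
        rw [Ideal.ofList_cons]
        refine sup_le ((Ideal.span_singleton_le_iff_mem _).mpr (Ideal.mem_sup_left hxP)) ?_
        refine le_sup_of_le_right ?_
        exact le_of_eq (by simp [Ideal.ofList])) (fun a ha => Ideal.subset_span (by simp_all)))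
      rw [Nat.cast_le, List.length_cons] at this
      have := List.toFinset_card_le xs
      omega
    refine (isWeaklyRegular_cons_iff M x xs).mpr ⟨hx, ?_⟩
    have : Nontrivial (QuotSMulTop x M) := nontrivial_quotSMulTop_of_mem_maximalIdeal _ hxs.1
    refine ih _ hxs.2 ?_
    rw [List.length_cons] at hle
    have h2 := (SES.succ_le_idealDepth_iff (Ideal.ofList (x :: xs)) (Ideal.subset_span (by simp)) hx xs.length).mp hle
    refine h2.trans (le_of_eq ?_)
    rw [idealDepth_eq_map_of_surjective (R := R) (S := R ⧸ Ideal.span {x}) Ideal.Quotient.mk_surjective,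
      idealDepth_eq_map_of_surjective (R := R) (S := R ⧸ Ideal.span {x}) Ideal.Quotient.mk_surjective
        (Ideal.ofList xs)]
    congr 1
    rw [Ideal.ofList_cons, Ideal.map_sup, Ideal.Quotient.algebraMap_eq, Ideal.map_quotient_self,
      bot_sup_eq]

theorem idealDepth_ofList_eq_length_iff (xs : List R) (M : Type u) [AddCommGroup M] [Module R M]
    [Module.Finite R M] [Nontrivial M] (hxs : ∀ x ∈ xs, x ∈ maximalIdeal R) :
    idealDepth (Ideal.ofList xs) M = xs.length ↔ IsWeaklyRegular M xs := by
  refine ⟨fun h => isWeaklyRegular_of_idealDepth_eq xs M hxs h.ge, fun h => ?_⟩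
  have hI : Ideal.ofList xs • (⊤ : Submodule R M) ≠ ⊤ := smul_top_ne_top fun h =>
    (maximalIdeal.isMaximal R).ne_top (top_le_iff.mp (h.ge.trans (Ideal.span_le.mpr hxs)))
  refine (Local.idealDepth_eq_length_iff hI (fun r hr => Ideal.subset_span hr) h).mpr fun r hr hreg => ?_
  rw [isWeaklyRegular_append_iff, isWeaklyRegular_singleton_iff] at hreg
  have : Nontrivial (M ⧸ Ideal.ofList xs • (⊤ : Submodule R M)) :=
    Submodule.Quotient.nontrivial_iff.mpr hI
  obtain ⟨z, hz⟩ := exists_ne (0 : M ⧸ Ideal.ofList xs • (⊤ : Submodule R M))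
  refine hz (hreg.2.right_eq_zero_of_smul ?_)
  induction z using Submodule.Quotient.induction_on with
  | _ m =>
    rw [← Submodule.Quotient.mk_smul, Submodule.Quotient.mk_eq_zero]
    exact Submodule.smul_mem_smul hr trivial

end Groth.Agent.Lib.Depth.Span
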